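import Mathlib
import Cfsg.Prelude
import Cfsg.Agent.Lib.Grp.CoprimeAbelian
import Cfsg.Agent.Lib.Grp.Solvable
import Cfsg.Agent.Lib.Grp.Cores
import Cfsg.Agent.Lib.Grp.Baer
import Cfsg.Agent.Lib.Grp.Blackburn.MetacyclicAut
import Cfsg.Agent.Lib.Invol.RankOne
import Cfsg.Agent.Lib.Invol.LargeSubgroup

/-!
# Tools for element orders with few prime divisors

Pairs of independent commuting elements of prime order, averaging over a fixed-point-free cyclic
operator, automorphisms of cyclic groups, and normal Sylow subgroups over a cyclic core.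
-/

set_option autoImplicit false

namespace Cfsg.Agent.Invol.FourPrime

open Subgroup

variable {G : Type*} [Group G]

/-- Two independent commuting elements of order `p` in `H`. -/
def IsPair (p : ℕ) (H : Subgroup G) (u v : G) : Prop :=
  u ∈ H ∧ v ∈ H ∧ orderOf u = p ∧ orderOf v = p ∧ Commute u v ∧ v ∉ zpowers u

theorem exists_power_prime_order [Finite G] {x : G} (hx : x ≠ 1) :
    ∃ l k : ℕ, l.Prime ∧ l ∣ orderOf x ∧ orderOf (x ^ k) = l := by
  obtain ⟨l, hl, hld⟩ := Nat.exists_prime_and_dvd (n := orderOf x) (by simpa using hx)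
  refine ⟨l, orderOf x / l, hl, hld, ?_⟩
  rw [orderOf_pow_of_dvd (Nat.div_pos (Nat.le_of_dvd (orderOf_pos x) hld) hl.pos).ne'
    (Nat.div_dvd_of_dvd hld), Nat.div_div_self hld (orderOf_pos x).ne']

theorem zpowers_eq_of_mem [Finite G] {p : ℕ} (hp : p.Prime) {x y : G} (hx : orderOf x = p) (hy : orderOf y = p)
    (h : y ∈ zpowers x) : zpowers y = zpowers x :=
  eq_of_le_of_card_ge (zpowers_le.2 h) (by rw [Nat.card_zpowers, Nat.card_zpowers, hx, hy])

theorem pair_pow [Finite G] {p : ℕ} {H : Subgroup G} {u v : G} (h : IsPair p H u v) :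
    ∀ x ∈ closure ({u, v} : Set G), x ^ p = 1 ∧ x ∈ H ∧ Commute x u ∧ Commute x v := by
  intro x hx
  induction hx using closure_induction with
  | mem x hx =>
    rcases hx with rfl | rfl
    · exact ⟨h.2.2.1 ▸ pow_orderOf_eq_one x, h.1, Commute.refl _, h.2.2.2.2.1⟩
    · exact ⟨h.2.2.2.1 ▸ pow_orderOf_eq_one x, h.2.1, h.2.2.2.2.1.symm, Commute.refl _⟩
  | one => exact ⟨one_pow _, H.one_mem, Commute.one_left _, Commute.one_left _⟩
  | mul a b ha hb iha ihb =>
    have hab : Commute a b := by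
      have : closure ({u, v} : Set G) ≤ centralizer ({a} : Set G) := by
        rw [closure_le]
        rintro y (rfl | rfl) <;> rw [SetLike.mem_coe, mem_centralizer_singleton_iff]
        · exact iha.2.2.1.symm.eq
        · exact iha.2.2.2.symm.eq
      exact (mem_centralizer_singleton_iff.1 (this hb)).symm
    exact ⟨by rw [hab.mul_pow, iha.1, ihb.1, one_mul], H.mul_mem iha.2.1 ihb.2.1,
      iha.2.2.1.mul_left ihb.2.2.1, iha.2.2.2.mul_left ihb.2.2.2⟩
  | inv a ha iha =>
    exact ⟨by rw [inv_pow, iha.1, inv_one], H.inv_mem iha.2.1, iha.2.2.1.inv_left, iha.2.2.2.inv_left⟩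

theorem pair_comm [Finite G] {p : ℕ} {H : Subgroup G} {u v : G} (h : IsPair p H u v) :
    IsMulCommutative (closure ({u, v} : Set G)) := by
  refine ⟨⟨fun a b => Subtype.ext ?_⟩⟩
  have : closure ({u, v} : Set G) ≤ centralizer ({(a : G)} : Set G) := by
    rw [closure_le]
    rintro y (rfl | rfl) <;> rw [SetLike.mem_coe, mem_centralizer_singleton_iff]
    · exact (pair_pow h a a.2).2.2.1.symm.eq
    · exact (pair_pow h a a.2).2.2.2.symm.eq
  exact (mem_centralizer_singleton_iff.1 (this b.2)).symm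

theorem pair_not_cyclic [Finite G] {p : ℕ} (hp : p.Prime) {H : Subgroup G} {u v : G} (h : IsPair p H u v) :
    ¬ IsCyclic (closure ({u, v} : Set G)) := by
  intro hc
  obtain ⟨g, hg⟩ := hc.exists_generator
  have hu : u ∈ closure ({u, v} : Set G) := subset_closure (by simp)
  have hv : v ∈ closure ({u, v} : Set G) := subset_closure (by simp)
  have hug : u ∈ zpowers (g : G) := by
    obtain ⟨k, hk⟩ := mem_zpowers_iff.1 (hg ⟨u, hu⟩)
    exact mem_zpowers_iff.2 ⟨k, by simpa using congrArg Subtype.val hk⟩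
  have hvg : v ∈ zpowers (g : G) := by
    obtain ⟨k, hk⟩ := mem_zpowers_iff.1 (hg ⟨v, hv⟩)
    exact mem_zpowers_iff.2 ⟨k, by simpa using congrArg Subtype.val hk⟩
  have hle : Nat.card (zpowers (g : G)) ≤ Nat.card (zpowers u) := by
    rw [Nat.card_zpowers, Nat.card_zpowers, h.2.2.1]
    exact Nat.le_of_dvd hp.pos (orderOf_dvd_of_pow_eq_one (pair_pow h g g.2).1)
  rw [← eq_of_le_of_card_ge (zpowers_le.2 hug) hle] at hvg
  exact h.2.2.2.2.2 hvg

/-- A pair acting coprimely generates by centralizers. -/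
theorem pair_le [Finite G] {p : ℕ} (hp : p.Prime) {H : Subgroup G} {u v : G} (h : IsPair p H u v)
    {K M : Subgroup G} (hu : u ∈ normalizer (K : Set G)) (hv : v ∈ normalizer (K : Set G))
    (hpK : ¬ p ∣ Nat.card K)
    (hC : ∀ f ∈ closure ({u, v} : Set G), orderOf f = p → K ⊓ centralizer ({f} : Set G) ≤ M) : K ≤ M := by
  haveI := Fact.mk hp
  haveI := pair_comm h
  have hle : closure ({u, v} : Set G) ≤ normalizer (K : Set G) := by
    rw [closure_le]
    rintro y (rfl | rfl)
    · exact hu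
    · exact hv
  have hP : IsPGroup p (closure ({u, v} : Set G)) := fun a =>
    ⟨1, Subtype.ext (by rw [pow_one]; exact (pair_pow h a a.2).1)⟩
  obtain ⟨n, hn⟩ := hP.exists_card_eq
  have hcop : (Nat.card (closure ({u, v} : Set G))).Coprime (Nat.card K) := by
    rw [hn]; exact Nat.Coprime.pow_left _ (hp.coprime_iff_not_dvd.2 hpK)
  rw [← Grp.generated_by_centralizers _ K (pair_not_cyclic hp h) hle hcop]
  exact iSup₂_le fun a ha => hC a ha.1 (orderOf_eq_prime (pair_pow h a ha.1).1 ha.2)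

theorem pair_fixed [Finite G] {p : ℕ} (hp : p.Prime) {H : Subgroup G} {u v : G} (h : IsPair p H u v)
    {K : Subgroup G} (hu : u ∈ normalizer (K : Set G)) (hv : v ∈ normalizer (K : Set G))
    (hpK : ¬ p ∣ Nat.card K) (hK : K ≠ ⊥) :
    ∃ f ∈ H, f ∈ closure ({u, v} : Set G) ∧ orderOf f = p ∧ ∃ k ∈ K, k ≠ 1 ∧ Commute f k := by
  by_contra hno
  push Not at hno
  refine hK (le_bot_iff.1 (pair_le hp h hu hv hpK fun f hf hfo k hk => mem_bot.2 ?_))
  by_contra hk1
  exact hno f (pair_pow h f hf).2.1 hf hfo k hk.1 hk1 (mem_centralizer_singleton_iff.1 hk.2).symm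

/-- Averaging over the conjugates of a cyclic operator without fixed points: the kernel of a
Frobenius action centralizes. -/
theorem frobenius_centralizes [Finite G] {p : ℕ} (hp : p.Prime) {W K : Subgroup G} [IsMulCommutative W]
    {y : G} (hW : ∀ w ∈ W, w ^ p = 1) (hKW : K ≤ normalizer (W : Set G)) (hyW : y ∈ normalizer (W : Set G))
    (hyK : y ∈ normalizer (K : Set G)) (hpK : ¬ p ∣ Nat.card K)
    (hfpf : ∀ i, 0 < i → i < orderOf y → ∀ k ∈ K, Commute (y ^ i) k → k = 1)
    (hfix : ∀ w ∈ W, Commute y w → w = 1) : K ≤ centralizer (W : Set G) := by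
  classical
  haveI : Fintype K := Fintype.ofFinite K
  letI : CommGroup W := { (inferInstance : Group W) with mul_comm := mul_comm' }
  let ψ : normalizer (W : Set G) →* MulAut W := W.normalizerMonoidHom
  have happ : ∀ g (w : W), (ψ g w : G) = g * w * (g : G)⁻¹ := fun g w => rfl
  let c : G → W → W := fun g w =>
    if hg : g ∈ normalizer (W : Set G) then ψ ⟨g, hg⟩ w else w
  have hc : ∀ g, g ∈ normalizer (W : Set G) → ∀ w : W, (c g w : G) = g * w * g⁻¹ := by
    intro g hg w
    simp only [c, dif_pos hg, happ]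
  have hcm : ∀ g g', g ∈ normalizer (W : Set G) → g' ∈ normalizer (W : Set G) → ∀ w : W,
      c (g * g') w = c g (c g' w) := by
    intro g g' hg hg' w
    apply Subtype.ext
    rw [hc _ (mul_mem hg hg'), hc _ hg, hc _ hg']
    group
  have hcp : ∀ g, g ∈ normalizer (W : Set G) → ∀ (s : Finset ℕ) (f : ℕ → W),
      c g (∏ i ∈ s, f i) = ∏ i ∈ s, c g (f i) := by
    intro g hg s f
    simp only [c, dif_pos hg, map_prod]
  set m := orderOf y with hm
  -- the product over the powers of a conjugate of `y` is trivial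
  have hzero : ∀ (k : K) (w : W), ∏ i ∈ Finset.range m, c ((k : G) * y ^ i * (k : G)⁻¹) w = 1 := by
    intro k w
    have hk := hKW k.2
    have hyi : ∀ i, y ^ i ∈ normalizer (W : Set G) := fun i => pow_mem hyW i
    set w' := c (k : G)⁻¹ w
    set P := ∏ i ∈ Finset.range m, c (y ^ i) w' with hP
    have hPy : c y P = P := by
      rw [hP, hcp y hyW]
      rw [Finset.prod_congr rfl (fun i _ => by rw [← hcm y _ hyW (hyi i), ← pow_succ'])]
      obtain ⟨m', hm'⟩ := Nat.exists_eq_add_one.2 (orderOf_pos y)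
      rw [hm, hm', Finset.prod_range_succ, Finset.prod_range_succ']
      congr 1
      rw [← hm', pow_orderOf_eq_one, pow_zero]
    have hP1 : P = 1 := by
      apply Subtype.ext
      refine hfix P P.2 ?_
      have h := congrArg Subtype.val hPy
      rw [hc y hyW] at h
      exact mul_inv_eq_iff_eq_mul.1 h
    have : ∏ i ∈ Finset.range m, c ((k : G) * y ^ i * (k : G)⁻¹) w = c (k : G) P := by
      rw [hP, hcp _ hk]
      refine Finset.prod_congr rfl fun i _ => ?_
      rw [hcm _ _ (mul_mem hk (hyi i)) (inv_mem hk), hcm _ _ hk (hyi i)]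
    rw [this, hP1]
    simp only [c, dif_pos hk, map_one]
  intro k₀ hk₀
  rw [mem_centralizer_iff]
  intro w₀ hw₀
  set w : W := ⟨w₀, hw₀⟩ with hw
  have hSK : ∀ u : W, (∏ k : K, c (k : G) u) ∈ {u' : W | ∀ k ∈ K, c k u' = u'} := by
    intro u k hk
    have : c k (∏ j : K, c (j : G) u) = ∏ j : K, c k (c (j : G) u) := by
      simp only [c, dif_pos (hKW hk), map_prod]
    rw [this]
    refine Fintype.prod_equiv (Equiv.mulLeft (⟨k, hk⟩ : K)) _ _ fun j => ?_
    show c k (c (j : G) u) = c ((⟨k, hk⟩ * j : K) : G) u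
    rw [Subgroup.coe_mul, hcm _ _ (hKW hk) (hKW j.2)]
  -- reindex the double product
  have hre : ∀ i ∈ (Finset.range m).erase 0,
      ∏ k : K, c ((k : G) * y ^ i * (k : G)⁻¹) w = ∏ k : K, c (k : G) (c (y ^ i) w) := by
    intro i hi
    rw [Finset.mem_erase, Finset.mem_range] at hi
    have hyi : y ^ i ∈ normalizer (K : Set G) := pow_mem hyK i
    let g : K → K := fun k =>
      k * ⟨y ^ i * (k : G)⁻¹ * (y ^ i)⁻¹, (mem_normalizer_iff.1 hyi _).1 (inv_mem k.2)⟩
    have hginj : Function.Injective g := by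
      intro a b hab
      have h := congrArg Subtype.val hab
      simp only [g, Subgroup.coe_mul] at h
      have h3 : Commute (y ^ i) ((b : G)⁻¹ * a) := by
        show y ^ i * ((b : G)⁻¹ * a) = (b : G)⁻¹ * a * y ^ i
        have h' : (b : G)⁻¹ * a = (y ^ i * (b : G)⁻¹ * (y ^ i)⁻¹) * (y ^ i * (a : G)⁻¹ * (y ^ i)⁻¹)⁻¹ := by
          rw [eq_mul_inv_iff_mul_eq, mul_assoc, h, ← mul_assoc, inv_mul_cancel, one_mul]
        conv_rhs => rw [h']
        group
      have := hfpf i (Nat.pos_of_ne_zero hi.1) hi.2 _ (mul_mem (inv_mem b.2) a.2) h3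
      exact Subtype.ext (inv_mul_eq_one.1 this).symm
    refine Fintype.prod_equiv (Equiv.ofBijective g hginj.bijective_of_finite) _ _ fun k => ?_
    show c ((k : G) * y ^ i * (k : G)⁻¹) w = c (g k : G) (c (y ^ i) w)
    rw [← hcm _ _ (hKW (g k).2) (pow_mem hyW i)]
    congr 1
    simp only [g, Subgroup.coe_mul]
    group
  have hall : ∏ i ∈ Finset.range m, ∏ k : K, c ((k : G) * y ^ i * (k : G)⁻¹) w = 1 := by
    rw [Finset.prod_comm]
    exact Finset.prod_eq_one fun k _ => hzero k w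
  have h0 : (0 : ℕ) ∈ Finset.range m := Finset.mem_range.2 (orderOf_pos y)
  rw [← Finset.mul_prod_erase _ _ h0, Finset.prod_congr rfl hre] at hall
  have hone : c 1 w = w := by
    apply Subtype.ext
    rw [hc 1 (one_mem _)]
    simp
  have hfirst : (∏ k : K, c ((k : G) * y ^ 0 * (k : G)⁻¹) w) = w ^ Nat.card K := by
    simp only [pow_zero, mul_one, mul_inv_cancel, hone, Finset.prod_const, Finset.card_univ,
      Nat.card_eq_fintype_card]
  rw [hfirst] at hall
  -- so the power of `w` is fixed by `K`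
  have hfixK : ∀ k ∈ K, c k (w ^ Nat.card K) = w ^ Nat.card K := by
    intro k hk
    have hq : ∀ i ∈ (Finset.range m).erase 0,
        c k (∏ j : K, c (j : G) (c (y ^ i) w)) = ∏ j : K, c (j : G) (c (y ^ i) w) :=
      fun i _ => hSK _ k hk
    have he : w ^ Nat.card K = (∏ i ∈ (Finset.range m).erase 0, ∏ j : K, c (j : G) (c (y ^ i) w))⁻¹ :=
      eq_inv_of_mul_eq_one_left hall
    rw [he]
    simp only [c, dif_pos (hKW hk), map_inv, map_prod] at hq ⊢
    exact congrArg Inv.inv (Finset.prod_congr rfl hq)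
  have hp' : (Nat.card K).Coprime p := (hp.coprime_iff_not_dvd.2 hpK).symm
  have hwo : orderOf w ∣ p := orderOf_dvd_of_pow_eq_one (Subtype.ext (hW w₀ hw₀))
  obtain ⟨j, hj⟩ := exists_pow_eq_self_of_coprime (hp'.coprime_dvd_right hwo)
  have hfw : c k₀ w = w := by
    have h := hfixK k₀ hk₀
    have hk' : k₀ ∈ normalizer (W : Set G) := hKW hk₀
    simp only [c, dif_pos hk'] at h ⊢
    rw [← hj, map_pow, h]
  have h := congrArg Subtype.val hfw
  rw [hc _ (hKW hk₀)] at h
  exact (mul_inv_eq_iff_eq_mul.1 h).symm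

/-- An element of prime order normalizing a cyclic group whose automorphism group has order prime to
it centralizes it. -/
theorem commute_of_totient [Finite G] {r : ℕ} (hr : r.Prime) {x : G} (hx : orderOf x = r) {C : Subgroup G}
    [IsCyclic C] (hxC : x ∈ normalizer (C : Set G)) (hd : ¬ r ∣ (Nat.card C).totient) :
    ∀ y ∈ C, Commute x y := by
  intro y hy
  set φ := C.normalizerMonoidHom with hφ
  have h1 : orderOf (φ ⟨x, hxC⟩) ∣ r := by
    refine (orderOf_map_dvd φ _).trans ?_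
    rw [Subgroup.orderOf_mk, hx]
  have h2 : orderOf (φ ⟨x, hxC⟩) ∣ (Nat.card C).totient := by
    rw [← IsCyclic.card_mulAut C]; exact orderOf_dvd_natCard _
  have h3 : φ ⟨x, hxC⟩ = 1 := by
    rcases (Nat.dvd_prime hr).1 h1 with e | e
    · exact orderOf_eq_one_iff.1 e
    · exact absurd (e ▸ h2) hd
  have h4 := congrArg Subtype.val (DFunLike.congr_fun h3 ⟨y, hy⟩)
  exact mul_inv_eq_iff_eq_mul.1 h4

theorem commute_of_not_dvd_sub_one [Finite G] {r s : ℕ} (hr : r.Prime) (hs : s.Prime) {x z : G}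
    (hx : orderOf x = r) (hz : orderOf z = s) (hn : x ∈ normalizer ((zpowers z) : Set G))
    (hd : ¬ r ∣ s - 1) : Commute x z := by
  refine commute_of_totient hr hx hn ?_ z (mem_zpowers z)
  rw [Nat.card_zpowers, hz, Nat.totient_prime hs]
  exact hd

theorem pair_exists_commute [Finite G] {p s : ℕ} (hp : p.Prime) (hs : s.Prime) {H : Subgroup G} {u v a : G}
    (h : IsPair p H u v) (ha : orderOf a = s) (hu : u ∈ normalizer ((zpowers a) : Set G))
    (hv : v ∈ normalizer ((zpowers a) : Set G)) :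
    ∃ f ∈ H, f ∈ closure ({u, v} : Set G) ∧ orderOf f = p ∧ Commute f a := by
  by_contra hno
  push Not at hno
  have hle : closure ({u, v} : Set G) ≤ normalizer ((zpowers a) : Set G) := by
    rw [closure_le]
    rintro y (rfl | rfl)
    · exact hu
    · exact hv
  set φ := (zpowers a).normalizerMonoidHom.comp (inclusion hle) with hφ
  haveI := Fact.mk hs
  have hinj : Function.Injective φ := by
    rw [injective_iff_map_eq_one]
    intro f hf
    by_contra hf1
    have hfa : (f : G) * a * (f : G)⁻¹ = a :=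
      congrArg Subtype.val (DFunLike.congr_fun hf (⟨a, mem_zpowers a⟩ : zpowers a))
    have hc : Commute (f : G) a := mul_inv_eq_iff_eq_mul.1 hfa
    exact hno f (pair_pow h f f.2).2.1 f.2
      (orderOf_eq_prime (hp := ⟨hp⟩) (pair_pow h f f.2).1 (by simpa using hf1)) hc
  haveI : IsCyclic (MulAut (zpowers a)) := by
    have e := IsCyclic.mulAutMulEquiv (G := zpowers a)
    have hc : Nat.card (zpowers a) = s := by rw [Nat.card_zpowers, ha]
    rw [hc] at e
    exact e.symm.isCyclic.1 inferInstance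
  exact pair_not_cyclic hp h (isCyclic_of_injective φ hinj)

theorem conj_mem_pCoreOf [Finite G] {p : ℕ} {L : Subgroup G} {l : G} (hl : l ∈ L) :
    l ∈ normalizer (Cfsg.pCoreOf p L : Set G) := lg_le_normalizer_pCoreOf L hl

/-- The elements of order dividing `p` in the centre of `Q`. -/
def omegaCenter (p : ℕ) (Q : Subgroup G) : Subgroup G where
  carrier := {x | x ∈ Q ∧ x ^ p = 1 ∧ ∀ y ∈ Q, Commute x y}
  one_mem' := ⟨Q.one_mem, one_pow _, fun _ _ => Commute.one_left _⟩
  mul_mem' := fun {a b} ha hb => ⟨Q.mul_mem ha.1 hb.1,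
    by rw [(ha.2.2 b hb.1).mul_pow, ha.2.1, hb.2.1, one_mul],
    fun y hy => (ha.2.2 y hy).mul_left (hb.2.2 y hy)⟩
  inv_mem' := fun {a} ha => ⟨Q.inv_mem ha.1, by rw [inv_pow, ha.2.1, inv_one],
    fun y hy => (ha.2.2 y hy).inv_left⟩

theorem omegaCenter_le {p : ℕ} {Q : Subgroup G} : omegaCenter p Q ≤ Q := fun _ h => h.1

theorem omegaCenter_elementary {p : ℕ} {Q : Subgroup G} : Cfsg.IsElementaryAbelian p (omegaCenter p Q) :=
  ⟨⟨⟨fun a b => Subtype.ext (a.2.2.2 b b.2.1)⟩⟩, fun _ h => h.2.1⟩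

theorem omegaCenter_normalizer [Finite G] {p : ℕ} {Q : Subgroup G} :
    normalizer (Q : Set G) ≤ normalizer (omegaCenter p Q : Set G) := by
  intro g hg
  refine mem_normalizer_fintype fun x hx => ?_
  refine ⟨(mem_normalizer_iff.1 hg x).1 hx.1, by rw [conj_pow, hx.2.1, mul_one, mul_inv_cancel], fun y hy => ?_⟩
  have hy' : g⁻¹ * y * g ∈ Q := by simpa using (mem_normalizer_iff.1 (inv_mem hg) y).1 hy
  have := (hx.2.2 _ hy').map (MulAut.conj g).toMonoidHom
  simpa [mul_assoc] using this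

theorem omegaCenter_ne_bot [Finite G] {p : ℕ} [hp : Fact p.Prime] {Q : Subgroup G} (hQ : IsPGroup p Q)
    (hQ1 : Q ≠ ⊥) : omegaCenter p Q ≠ ⊥ := by
  haveI : Nontrivial Q := Q.nontrivial_iff_ne_bot.2 hQ1
  haveI := hQ.center_nontrivial
  obtain ⟨k, hk⟩ := (hQ.to_subgroup (center Q)).exists_card_eq
  have hk0 : k ≠ 0 := fun e => by
    rw [e, pow_zero] at hk
    exact absurd hk (Finite.one_lt_card (α := center Q)).ne'
  obtain ⟨z, hz⟩ := exists_prime_orderOf_dvd_card' (G := center Q) p (hk ▸ dvd_pow_self p hk0)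
  intro e
  have : ((z : Q) : G) ∈ omegaCenter p Q := ⟨(z : Q).2,
    by rw [← hz, ← Subgroup.coe_pow, ← Subgroup.coe_pow, pow_orderOf_eq_one]; rfl,
    fun y hy => congrArg Subtype.val (mem_center_iff.1 z.2 ⟨y, hy⟩).symm⟩
  rw [e, mem_bot] at this
  have : z = 1 := Subtype.ext (Subtype.ext this)
  rw [this, orderOf_one] at hz
  exact hp.out.ne_one hz.symm

/-- A `p`-group without two independent commuting elements of order `p` has a unique subgroup of
order `p`. -/
theorem mem_zpowers_of_no_pair [Finite G] {p : ℕ} [hp : Fact p.Prime] {Q : Subgroup G} (hQ : IsPGroup p Q)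
    (hno : ¬ ∃ u v, IsPair p Q u v) {x y : G} (hx : x ∈ Q) (hy : y ∈ Q) (hxo : orderOf x = p) (hyo : orderOf y = p) :
    y ∈ zpowers x := by
  have hQ1 : Q ≠ ⊥ := fun e => by
    rw [e, mem_bot] at hx
    rw [hx, orderOf_one] at hxo
    exact hp.out.ne_one hxo.symm
  obtain ⟨z, hzm, hz1⟩ := (Subgroup.ne_bot_iff_exists_ne_one).1 (omegaCenter_ne_bot hQ hQ1) |> fun ⟨z, hz⟩ =>
    (⟨(z : G), z.2, fun e => hz (Subtype.ext e)⟩ : ∃ z, z ∈ omegaCenter p Q ∧ z ≠ 1)
  have hzo := orderOf_eq_prime hzm.2.1 hz1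
  have hmem : ∀ w ∈ Q, orderOf w = p → w ∈ zpowers z := fun w hw hwo => by
    by_contra hn
    exact hno ⟨z, w, hzm.1, hw, hzo, hwo, hzm.2.2 w hw, hn⟩
  rw [zpowers_eq_of_mem hp.out hzo hxo (hmem x hx hxo)]
  exact hmem y hy hyo

theorem isCyclic_of_no_pair [Finite G] {p : ℕ} [hp : Fact p.Prime] {Q : Subgroup G} (hQ : IsPGroup p Q)
    (hp2 : p ≠ 2) (hno : ¬ ∃ u v, IsPair p Q u v) : IsCyclic Q := by
  by_cases hQ1 : Q = ⊥
  · subst hQ1; infer_instance
  obtain ⟨z, hz⟩ := (Subgroup.ne_bot_iff_exists_ne_one).1 (omegaCenter_ne_bot hQ hQ1)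
  have hzm := z.2
  have hzo : orderOf (z : G) = p := orderOf_eq_prime hzm.2.1 fun e => hz (Subtype.ext e)
  refine isCyclic_of_pow_eq_one_mem hQ hp2 (z := ⟨z, hzm.1⟩)
    (mem_center_iff.2 fun y => Subtype.ext (hzm.2.2 y y.2).symm) (Subtype.ext hzm.2.1) fun y hy => ?_
  by_cases hy1 : y = 1
  · rw [hy1]; exact one_mem _
  have hyo : orderOf (y : G) = p := by
    rw [Subgroup.orderOf_coe]; exact orderOf_eq_prime hy hy1
  obtain ⟨k, hk⟩ := mem_zpowers_iff.1 (mem_zpowers_of_no_pair hQ hno hzm.1 y.2 hzo hyo)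
  exact mem_zpowers_iff.2 ⟨k, Subtype.ext (by simpa using hk)⟩

/-- Over a cyclic `r`-core, a pair of order `r` cannot centralize all other cores. -/
theorem cyclic_core_false {X : Type*} [Group X] [Finite X] [Group.IsSolvable X] {r : ℕ} [hr : Fact r.Prime]
    (hc : IsCyclic (Cfsg.pCore r X)) {u v : X} (h : IsPair r (⊤ : Subgroup X) u v)
    (hu : ∀ t : ℕ, t.Prime → t ≠ r → ∀ y ∈ Cfsg.pCore t X, Commute u y)
    (hv : ∀ t : ℕ, t.Prime → t ≠ r → ∀ y ∈ Cfsg.pCore t X, Commute v y) : False := by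
  classical
  let O : Subgroup X := Cfsg.pCore r X
  haveI hOn : O.Normal := Grp.pCore_isNormal
  let A : Subgroup X := ⨆ t : {t : Nat.Primes // (t : ℕ) ≠ r}, Cfsg.pCore ((t : Nat.Primes) : ℕ) X
  haveI hAn : A.Normal := @Subgroup.iSup_normal _ _ _ _ (fun _ => Grp.pCore_isNormal)
  let C : Subgroup X := centralizer (A : Set X)
  haveI : C.Normal := inferInstance
  have hCmem : ∀ x : X, (∀ t : ℕ, t.Prime → t ≠ r → ∀ y ∈ Cfsg.pCore t X, Commute x y) → x ∈ C := by
    intro x hx
    have : A ≤ centralizer ({x} : Set X) := iSup_le fun t y hy =>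
      mem_centralizer_singleton_iff.2 (hx _ t.1.2 t.2 y hy).symm.eq
    exact mem_centralizer_iff.2 fun y hy => (mem_centralizer_singleton_iff.1 (this hy))
  have hF : Cfsg.fittingSubgroup X = O ⊔ A := by
    rw [Grp.fittingSubgroup_eq_iSup_pCore]
    refine le_antisymm (iSup_le fun t => ?_) (sup_le (le_iSup (fun t : Nat.Primes => Cfsg.pCore (t : ℕ) X) ⟨r, hr.out⟩)
      (iSup_le fun t => le_iSup (fun t : Nat.Primes => Cfsg.pCore (t : ℕ) X) t.1))
    by_cases ht : (t : ℕ) = r
    · rw [ht]; exact le_sup_left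
    · exact le_trans (le_iSup (fun t : {t : Nat.Primes // (t : ℕ) ≠ r} => Cfsg.pCore ((t : Nat.Primes) : ℕ) X) ⟨t, ht⟩)
        le_sup_right
  have hOC : O ≤ C := by
    intro x hx
    refine hCmem x fun t ht htr y hy => ?_
    haveI := Fact.mk ht
    haveI : (Cfsg.pCore t X).Normal := Grp.pCore_isNormal
    have hcop : (Nat.card O).Coprime (Nat.card (Cfsg.pCore t X)) := by
      obtain ⟨i, hi⟩ := (Grp.pCore_isPGroup (p := r) (G := X)).exists_card_eq
      obtain ⟨j, hj⟩ := (Grp.pCore_isPGroup (p := t) (G := X)).exists_card_eq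
      rw [show Nat.card O = r ^ i from hi, hj]
      exact Nat.Coprime.pow _ _ ((Nat.coprime_primes hr.out ht).2 htr.symm)
    exact (mem_centralizer_iff.1 (Grp.commute_of_coprime_normal hcop hx) y hy).symm
  have hcomm : ∀ a ∈ C, ∀ b ∈ C, a * b * a⁻¹ * b⁻¹ ∈ Cfsg.fittingSubgroup X := by
    intro a ha b hb
    apply Grp.centralizer_fittingSubgroup_le (G := X)
    have hle : O ⊔ A ≤ centralizer ({a * b * a⁻¹ * b⁻¹} : Set X) := by
      refine sup_le ?_ ?_
      · obtain ⟨g, hg⟩ := hc.exists_generator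
        have hmem : ∀ z : X, ∀ y ∈ O, z * y * z⁻¹ ∈ O := fun z y hy => hOn.conj_mem y hy z
        intro y hy
        obtain ⟨n, hn⟩ := mem_zpowers_iff.1 (hg ⟨y, hy⟩)
        obtain ⟨i, hi⟩ := mem_zpowers_iff.1 (hg ⟨a * g * a⁻¹, hmem a g g.2⟩)
        obtain ⟨j, hj⟩ := mem_zpowers_iff.1 (hg ⟨b * g * b⁻¹, hmem b g g.2⟩)
        have hi' : a * g * a⁻¹ = (g : X) ^ i := by simpa using (congrArg Subtype.val hi).symm
        have hj' : b * g * b⁻¹ = (g : X) ^ j := by simpa using (congrArg Subtype.val hj).symm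
        have hab : a * b * g * (a * b)⁻¹ = b * a * g * (b * a)⁻¹ := by
          rw [show a * b * g * (a * b)⁻¹ = a * (b * g * b⁻¹) * a⁻¹ by group,
            show b * a * g * (b * a)⁻¹ = b * (a * g * a⁻¹) * b⁻¹ by group, hi', hj', ← conj_zpow,
            ← conj_zpow, hi', hj', ← zpow_mul, ← zpow_mul, mul_comm]
        have hcg : Commute (a * b * a⁻¹ * b⁻¹) (g : X) := by
          obtain ⟨k, hk⟩ := mem_zpowers_iff.1 (hg ⟨(b * a)⁻¹ * g * (b * a)⁻¹⁻¹, hmem _ g g.2⟩)
          have hk' : (b * a)⁻¹ * g * (b * a)⁻¹⁻¹ = (g : X) ^ k := by simpa using (congrArg Subtype.val hk).symm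
          apply mul_inv_eq_iff_eq_mul.1
          calc a * b * a⁻¹ * b⁻¹ * g * (a * b * a⁻¹ * b⁻¹)⁻¹
              = (a * b) * ((b * a)⁻¹ * g * (b * a)⁻¹⁻¹) * (a * b)⁻¹ := by group
            _ = (b * a) * ((b * a)⁻¹ * g * (b * a)⁻¹⁻¹) * (b * a)⁻¹ := by rw [hk', ← conj_zpow, hab, conj_zpow]
            _ = g := by group
        rw [mem_centralizer_singleton_iff]
        have : y = (g : X) ^ n := by simpa using (congrArg Subtype.val hn).symm
        rw [this]
        exact (hcg.zpow_right n).symm.eq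
      · intro y hy
        rw [mem_centralizer_singleton_iff]
        exact mem_centralizer_iff.1 (mul_mem (mul_mem (mul_mem ha hb) (inv_mem ha)) (inv_mem hb)) y hy
    exact mem_centralizer_iff.2 fun y hy => mem_centralizer_singleton_iff.1 (hle (hF ▸ hy))
  -- a Sylow `r`-subgroup of `C` containing a given element of order `r`
  have key : ∀ x ∈ C, orderOf x = r → x ∈ O := by
    intro x hx hxo
    have hxp : IsPGroup r (zpowers (⟨x, hx⟩ : C)) :=
      IsPGroup.of_card (n := 1) (by rw [Nat.card_zpowers, Subgroup.orderOf_mk, hxo, pow_one])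
    obtain ⟨P, hP⟩ := hxp.exists_le_sylow
    haveI : (O.subgroupOf C).Normal := inferInstance
    have hOP : ∀ o : C, (o : X) ∈ O → o ∈ (P : Subgroup C) := fun o ho =>
      ((Grp.pCore_isPGroup (p := r) (G := X)).comap_of_injective C.subtype C.subtype_injective).le_sylow_of_normal P
        (show o ∈ O.subgroupOf C from ho)
    have hPn : (P : Subgroup C).Normal := by
      constructor
      intro y hy c
      have hd := hcomm c c.2 y y.2
      rw [hF, Subgroup.mem_sup_of_normal_right] at hd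
      obtain ⟨d₁, hd₁, d₂, hd₂, he⟩ := hd
      have hy₁ : (⟨d₁, hOC hd₁⟩ : C) * y ∈ (P : Subgroup C) := mul_mem (hOP _ hd₁) hy
      have hcy : (c : X) * y * (c : X)⁻¹ = d₁ * y * d₂ := by
        have hc2 : d₂ * (y : X) = y * d₂ := mem_centralizer_iff.1 y.2 d₂ hd₂
        rw [mul_assoc d₁, ← hc2, ← mul_assoc, he]; group
      obtain ⟨k, hk⟩ := P.2 ⟨_, hy₁⟩
      obtain ⟨l, hl⟩ := P.2 ⟨y, hy⟩
      have hk' : (d₁ * (y : X)) ^ r ^ (k + l) = 1 := by
        have := congrArg (fun z : (P : Subgroup C) => ((z : C) : X)) hk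
        simp only [SubmonoidClass.coe_pow, Subgroup.coe_mul, OneMemClass.coe_one] at this
        rw [pow_add, pow_mul, this, one_pow]
      have hl' : ((c : X) * y * (c : X)⁻¹) ^ r ^ (k + l) = 1 := by
        have := congrArg (fun z : (P : Subgroup C) => ((z : C) : X)) hl
        simp only [SubmonoidClass.coe_pow, OneMemClass.coe_one] at this
        rw [conj_pow, pow_add, mul_comm, pow_mul, this, one_pow, mul_one, mul_inv_cancel]
      have hcd : Commute (d₁ * (y : X)) d₂ :=
        (mem_centralizer_iff.1 (mul_mem (hOC hd₁) y.2) d₂ hd₂).symm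
      rw [hcy, hcd.mul_pow, hk', one_mul] at hl'
      have hd₂F : d₂ ∈ Cfsg.fittingSubgroup X := hF.symm ▸ mem_sup_right hd₂
      have hdvd : orderOf d₂ ∣ r ^ (k + l) := orderOf_dvd_of_pow_eq_one hl'
      have hd₂O : d₂ ∈ O := by
        obtain ⟨i, -, hi⟩ := (Nat.dvd_prime_pow hr.out).1 hdvd
        exact Grp.mem_pCore_of_mem_fitting hd₂F (IsPGroup.of_card (n := i) (by rw [Nat.card_zpowers, hi]))
      have e : c * y * c⁻¹ = (⟨d₁, hOC hd₁⟩ : C) * y * ⟨d₂, hOC hd₂O⟩ := Subtype.ext hcy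
      rw [e]
      exact mul_mem hy₁ (hOP _ hd₂O)
    haveI := hPn
    haveI : (P : Subgroup C).Characteristic := P.characteristic_of_normal hPn
    exact Grp.le_pCore (N := (P : Subgroup C).map C.subtype) inferInstance (P.2.map _)
      ⟨⟨x, hx⟩, hP (mem_zpowers _), rfl⟩
  have hu' := key u (hCmem u hu) h.2.2.1
  have hv' := key v (hCmem v hv) h.2.2.2.1
  exact pair_not_cyclic hr.out h (Grp.Blackburn.isCyclic_of_le
    ((closure_le _).2 (by rintro y (rfl | rfl) <;> assumption)) hc)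

end Cfsg.Agent.Invol.FourPrime
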