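import Mathlib
import Cfsg.Prelude
import Cfsg.Agent.Lib.Invol.FourPrime.Tools
import Cfsg.Agent.Lib.Grp.SolvableThreePrimes
import Cfsg.Agent.Lib.Grp.HallHigmanAction
import Cfsg.Agent.Lib.Grp.Zassenhaus.Basics

/-!
# Solvable groups whose elements have orders with at most two of four primes

In a solvable group on four primes, it is impossible that any two of them divide the order of an element
while no three do.
-/

set_option autoImplicit false

namespace Cfsg.Agent.Invol.FourPrime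

open Subgroup
open scoped commutatorElement

variable {G : Type*} [Group G]

/-- The configuration: four primes, all pairs occur, no triple occurs. -/
structure Hyp (G : Type*) [Group G] (σ : Finset ℕ) : Prop where
  solv : Group.IsSolvable G
  prime : ∀ p ∈ σ, p.Prime
  card : σ.card = 4
  dvd : ∀ l : ℕ, l.Prime → l ∣ Nat.card G → l ∈ σ
  edge : ∀ p ∈ σ, ∀ q ∈ σ, p ≠ q → ∃ x y : G, orderOf x = p ∧ orderOf y = q ∧ Commute x y
  tri : ∀ p ∈ σ, ∀ q ∈ σ, ∀ r ∈ σ, p ≠ q → q ≠ r → p ≠ r → ∀ x y z : G,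
    orderOf x = p → orderOf y = q → orderOf z = r → Commute x y → Commute x z → Commute y z → False

/-- A labelling of the four primes. -/
structure Four (σ : Finset ℕ) (p q r s : ℕ) : Prop where
  hp : p ∈ σ
  hq : q ∈ σ
  hr : r ∈ σ
  hs : s ∈ σ
  pq : p ≠ q
  pr : p ≠ r
  ps : p ≠ s
  qr : q ≠ r
  qs : q ≠ s
  rs : r ≠ s
  cover : ∀ l ∈ σ, l = p ∨ l = q ∨ l = r ∨ l = s

theorem Four.swapRS {σ : Finset ℕ} {p q r s : ℕ} (h : Four σ p q r s) : Four σ p q s r :=
  ⟨h.hp, h.hq, h.hs, h.hr, h.pq, h.ps, h.pr, h.qs, h.qr, h.rs.symm, fun l hl => by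
    have := h.cover l hl; tauto⟩

theorem Four.swapPQ {σ : Finset ℕ} {p q r s : ℕ} (h : Four σ p q r s) : Four σ q p r s :=
  ⟨h.hq, h.hp, h.hr, h.hs, h.pq.symm, h.qr, h.qs, h.pr, h.ps, h.rs, fun l hl => by
    have := h.cover l hl; tauto⟩

theorem Four.swapQR {σ : Finset ℕ} {p q r s : ℕ} (h : Four σ p q r s) : Four σ p r q s :=
  ⟨h.hp, h.hr, h.hq, h.hs, h.pr, h.pq, h.ps, h.qr.symm, h.rs, h.qs, fun l hl => by
    have := h.cover l hl; tauto⟩

theorem exists_four {σ : Finset ℕ} (hc : σ.card = 4) {p : ℕ} (hp : p ∈ σ) : ∃ q r s, Four σ p q r s := by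
  have h3 : (σ.erase p).card = 3 := by rw [Finset.card_erase_of_mem hp, hc]
  obtain ⟨q, r, s, hqr, hqs, hrs, he⟩ := Finset.card_eq_three.1 h3
  have hm : ∀ l, l ∈ σ.erase p ↔ l = q ∨ l = r ∨ l = s := fun l => by rw [he]; simp
  have hq := Finset.mem_erase.1 ((hm q).2 (Or.inl rfl))
  have hr := Finset.mem_erase.1 ((hm r).2 (Or.inr (Or.inl rfl)))
  have hs := Finset.mem_erase.1 ((hm s).2 (Or.inr (Or.inr rfl)))
  exact ⟨q, r, s, hp, hq.2, hr.2, hs.2, hq.1.symm, hr.1.symm, hs.1.symm, hqr, hqs, hrs, fun l hl => by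
    by_cases h : l = p
    · exact Or.inl h
    · exact Or.inr ((hm l).1 (Finset.mem_erase.2 ⟨h, hl⟩))⟩

/-- `x` fixes a non-identity element of `V`. -/
def Fix (V : Subgroup G) (x : G) : Prop := ∃ w ∈ V, w ≠ 1 ∧ Commute x w

theorem elem_order {p : ℕ} [Fact p.Prime] {V : Subgroup G} (hV : Cfsg.IsElementaryAbelian p V) {w : G} (hw : w ∈ V)
    (hw1 : w ≠ 1) : orderOf w = p := orderOf_eq_prime (hV.2 w hw) hw1

theorem not_dvd_card [Finite G] {p t : ℕ} [Fact p.Prime] (ht : t.Prime) (hpt : t ≠ p) {V : Subgroup G} (hV : IsPGroup p V) :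
    ¬ t ∣ Nat.card V := by
  obtain ⟨n, hn⟩ := hV.exists_card_eq
  rw [hn]
  exact fun h => hpt ((Nat.prime_dvd_prime_iff_eq ht Fact.out).1 (ht.dvd_of_dvd_pow h))

theorem elem_isPGroup {p : ℕ} {V : Subgroup G} (hV : Cfsg.IsElementaryAbelian p V) : IsPGroup p V :=
  fun a => ⟨1, Subtype.ext (by rw [pow_one]; exact hV.2 a a.2)⟩

theorem mem_normalizer_centralizer [Finite G] {y x : G} (h : Commute y x) :
    y ∈ normalizer (centralizer ({x} : Set G) : Set G) :=
  le_normalizer (mem_centralizer_singleton_iff.2 h.eq)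

theorem mem_normalizer_inf [Finite G] {y : G} {A B : Subgroup G} (hA : y ∈ normalizer (A : Set G))
    (hB : y ∈ normalizer (B : Set G)) : y ∈ normalizer ((A ⊓ B : Subgroup G) : Set G) :=
  mem_normalizer_fintype fun z hz => ⟨(mem_normalizer_iff.1 hA z).1 hz.1, (mem_normalizer_iff.1 hB z).1 hz.2⟩

/-- An operator of prime order without fixed points on `V` centralizes a group faithful on `V`. -/
theorem commute_of_not_fix [Finite G] {p q r : ℕ} [Fact p.Prime] [Fact q.Prime] [Fact r.Prime]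
    (hpq : p ≠ q) (hpr : p ≠ r) (hqr : q ≠ r) {V Q : Subgroup G} (hV : Cfsg.IsElementaryAbelian p V)
    (hQ : IsPGroup q Q) (hQV : Q ≤ normalizer (V : Set G)) (hQC : Q ⊓ centralizer (V : Set G) = ⊥)
    (hexc : q = 2 → IsMulCommutative Q) {x : G} (hx : orderOf x = r) (hxQ : x ∈ normalizer (Q : Set G))
    (hxV : x ∈ normalizer (V : Set G)) (hfix : ¬ Fix V x) : ∀ y ∈ Q, Commute x y := by
  by_contra hno
  push Not at hno
  obtain ⟨y, hy, hxy⟩ := hno
  refine Grp.exists_fixed_of_not_centralizing hpq hpr hqr (zpowers x) Q V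
    (by rw [Nat.card_zpowers, hx]) hQ (zpowers_le.2 hxQ) hV (zpowers_le.2 hxV) hQV ?_ (fun h _ => hexc h) ?_
  · intro hle
    have hm := commutator_mem_commutator hy (mem_zpowers x)
    have hQm : ⁅y, x⁆ ∈ Q := by
      rw [commutatorElement_def, mul_assoc, mul_assoc]
      refine mul_mem hy ?_
      rw [← mul_assoc]
      exact (mem_normalizer_iff.1 hxQ _).1 (inv_mem hy)
    have h1 : ⁅y, x⁆ ∈ Q ⊓ centralizer (V : Set G) := ⟨hQm, hle hm⟩
    rw [hQC, mem_bot] at h1
    exact hxy (commutatorElement_eq_one_iff_commute.1 h1).symm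
  · rw [eq_bot_iff]
    intro w hw
    rw [mem_bot]
    by_contra hw1
    exact hfix ⟨w, hw.1, hw1, mem_centralizer_iff.1 hw.2 x (mem_zpowers x)⟩

/-- An involution without fixed points inverts an abelian group. -/
theorem invert_of_not_fix {V : Subgroup G} [IsMulCommutative V] {z : G} (hz : z ^ 2 = 1)
    (hzV : z ∈ normalizer (V : Set G)) (hfix : ¬ Fix V z) : ∀ w ∈ V, z * w * z⁻¹ = w⁻¹ := by
  intro w hw
  have hc : z * w * z⁻¹ ∈ V := (mem_normalizer_iff.1 hzV w).1 hw
  have hcomm : w * (z * w * z⁻¹) = z * w * z⁻¹ * w :=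
    congrArg Subtype.val (mul_comm' (⟨w, hw⟩ : V) ⟨_, hc⟩)
  by_contra hne
  refine hfix ⟨w * (z * w * z⁻¹), mul_mem hw hc, fun e => hne (eq_inv_of_mul_eq_one_right e), ?_⟩
  apply mul_inv_eq_iff_eq_mul.1
  calc z * (w * (z * w * z⁻¹)) * z⁻¹ = (z * w * z⁻¹) * ((z * z) * w * (z * z)⁻¹) := by group
    _ = w * (z * w * z⁻¹) := by rw [← sq, hz, one_mul, inv_one, mul_one, ← hcomm]

theorem centralizes_of_same {V : Subgroup G} {a b : G}
    (h : ∀ w ∈ V, a * w * a⁻¹ = b * w * b⁻¹) : a⁻¹ * b ∈ centralizer (V : Set G) :=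
  mem_centralizer_iff.2 fun w hw => by
    calc w * (a⁻¹ * b) = a⁻¹ * (a * w * a⁻¹) * b := by group
      _ = a⁻¹ * (b * w * b⁻¹) * b := by rw [h w hw]
      _ = a⁻¹ * b * w := by group

section
variable {σ : Finset ℕ} {p q r s : ℕ}

theorem no_all [Finite G] (h : Hyp G σ) (hf : Four σ p q r s) {x : G} (hx : orderOf x = p)
    (hcq : ∃ y : G, orderOf y = q ∧ Commute x y) (hcr : ∃ y : G, orderOf y = r ∧ Commute x y)
    (hcs : ∃ y : G, orderOf y = s ∧ Commute x y) : False := by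
  haveI := h.solv
  set C := centralizer ({x} : Set G) with hC
  have hd : ∀ t, (∃ y : G, orderOf y = t ∧ Commute x y) → t ∣ Nat.card C := by
    rintro t ⟨y, hy, hc⟩
    have hm : y ∈ C := mem_centralizer_singleton_iff.2 hc.symm.eq
    have : orderOf (⟨y, hm⟩ : C) = t := by rw [Subgroup.orderOf_mk, hy]
    exact this ▸ orderOf_dvd_natCard _
  have key : ∀ a b : ℕ, a ∈ σ → b ∈ σ → a ≠ b → p ≠ a → p ≠ b → (∃ g : C, orderOf g = a * b) → False := by
    rintro a b ha hb hab hpa hpb ⟨g, hg⟩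
    have hg' : orderOf (g : G) = a * b := by rw [Subgroup.orderOf_coe, hg]
    have ha' := h.prime a ha
    have hb' := h.prime b hb
    have hcg : Commute x (g : G) := (mem_centralizer_singleton_iff.1 g.2).symm
    refine h.tri p hf.hp a ha b hb hpa hab hpb x ((g : G) ^ b) ((g : G) ^ a) hx ?_ ?_
      (hcg.pow_right _) (hcg.pow_right _) ((Commute.refl _).pow_pow _ _)
    · rw [orderOf_pow_of_dvd hb'.ne_zero (hg' ▸ Dvd.intro_left a rfl), hg', Nat.mul_div_cancel _ hb'.pos]
    · rw [orderOf_pow_of_dvd ha'.ne_zero (hg' ▸ Dvd.intro b rfl), hg', Nat.mul_div_cancel_left _ ha'.pos]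
  rcases Grp.ThreePrimes.exists_edge (G := C) (h.prime q hf.hq) (h.prime r hf.hr) (h.prime s hf.hs)
    hf.qr hf.qs hf.rs (hd q hcq) (hd r hcr) (hd s hcs) with e | e | e
  · exact key q r hf.hq hf.hr hf.qr hf.pq hf.pr e
  · exact key q s hf.hq hf.hs hf.qs hf.pq hf.ps e
  · exact key r s hf.hr hf.hs hf.rs hf.pr hf.ps e

/-- Every one of the primes has an independent commuting pair. -/
theorem exists_pair [Finite G] (h : Hyp G σ) (hp : p ∈ σ) : ∃ u v : G, IsPair p (⊤ : Subgroup G) u v := by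
  obtain ⟨q, r, s, hf⟩ := exists_four h.card hp
  haveI := Fact.mk (h.prime p hp)
  by_contra hno
  obtain ⟨x, _, hx, -, -⟩ := h.edge p hp q hf.hq hf.pq
  obtain ⟨P⟩ : Nonempty (Sylow p G) := inferInstance
  have hnoP : ¬ ∃ u v, IsPair p (P : Subgroup G) u v := fun ⟨u, v, e⟩ =>
    hno ⟨u, v, mem_top _, mem_top _, e.2.2⟩
  have hinto : ∀ a : G, orderOf a = p → ∃ g : G, g * a * g⁻¹ ∈ (P : Subgroup G) := by
    intro a ha
    obtain ⟨Q, hQ⟩ := (IsPGroup.of_card (n := 1) (by rw [Nat.card_zpowers, ha, pow_one]) :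
      IsPGroup p (zpowers a)).exists_le_sylow
    obtain ⟨g, hg⟩ := MulAction.exists_smul_eq G Q P
    refine ⟨g, ?_⟩
    rw [← hg]
    exact ⟨a, hQ (mem_zpowers a), rfl⟩
  obtain ⟨g₀, hg₀⟩ := hinto x hx
  set z := g₀ * x * g₀⁻¹ with hz
  have hzo : orderOf z = p := by
    rw [hz, show g₀ * x * g₀⁻¹ = MulAut.conj g₀ x from rfl, MulEquiv.orderOf_eq, hx]
  have hcom : ∀ t ∈ σ, p ≠ t → ∃ y : G, orderOf y = t ∧ Commute z y := by
    intro t ht hpt
    obtain ⟨a, b, ha, hb, hab⟩ := h.edge p hp t ht hpt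
    obtain ⟨g, hg⟩ := hinto a ha
    have hao : orderOf (g * a * g⁻¹) = p := by
      rw [show g * a * g⁻¹ = MulAut.conj g a from rfl, MulEquiv.orderOf_eq, ha]
    obtain ⟨i, hi⟩ := mem_zpowers_iff.1 (mem_zpowers_of_no_pair P.2 hnoP hg hg₀ hao hzo)
    refine ⟨g * b * g⁻¹, by rw [show g * b * g⁻¹ = MulAut.conj g b from rfl, MulEquiv.orderOf_eq, hb], ?_⟩
    rw [← hi]
    exact (hab.map (MulAut.conj g).toMonoidHom).zpow_left i
  exact no_all h hf hzo (hcom q hf.hq hf.pq) (hcom r hf.hr hf.pr) (hcom s hf.hs hf.ps)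

/-- A `{r, s}`-subgroup with pairs and an element of order `rs`. -/
structure Two (L : Subgroup G) (r s : ℕ) : Prop where
  dvd : ∀ l : ℕ, l.Prime → l ∣ Nat.card L → l = r ∨ l = s
  pairR : ∃ u v, IsPair r L u v
  pairS : ∃ u v, IsPair s L u v
  edge : ∃ a ∈ L, ∃ b ∈ L, orderOf a = r ∧ orderOf b = s ∧ Commute a b

theorem Two.symm {L : Subgroup G} (t : Two L r s) : Two L s r := by
  obtain ⟨a, ha, b, hb, hao, hbo, hab⟩ := t.edge
  exact ⟨fun l hl hd => (t.dvd l hl hd).symm, t.pairS, t.pairR, ⟨b, hb, a, ha, hbo, hao, hab.symm⟩⟩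

theorem pCore_sub_bot [Finite G] {L : Subgroup G} (t : Two L r s) {l : ℕ} (hl : l.Prime) (hlr : l ≠ r) (hls : l ≠ s) :
    Cfsg.pCore l L = ⊥ := by
  haveI := Fact.mk hl
  by_contra hne
  obtain ⟨k, hk⟩ := (Grp.pCore_isPGroup (p := l) (G := L)).exists_card_eq
  have hk0 : k ≠ 0 := fun e => hne (card_eq_one.1 (by rw [hk, e, pow_zero]))
  rcases t.dvd l hl ((dvd_pow_self l hk0).trans (hk ▸ card_subgroup_dvd_card _)) with e | e
  · exact hlr e
  · exact hls e

theorem mem_centralizer_cores [Finite G] {L : Subgroup G} (t : Two L r s) {x : G} (hx : x ∈ L)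
    (hr' : ∀ y ∈ Cfsg.pCoreOf r L, Commute x y) (hs' : ∀ y ∈ Cfsg.pCoreOf s L, Commute x y) :
    ∀ l : ℕ, l.Prime → ∀ y ∈ Cfsg.pCore l L, Commute (⟨x, hx⟩ : L) y := by
  intro l hl y hy
  apply Subtype.ext
  by_cases h1 : l = r
  · subst h1; exact (hr' (y : G) ⟨y, hy, rfl⟩).eq
  by_cases h2 : l = s
  · subst h2; exact (hs' (y : G) ⟨y, hy, rfl⟩).eq
  rw [pCore_sub_bot t hl h1 h2, mem_bot] at hy
  simp [hy]

/-- The core of the case of a noncyclic normal `q`-group: one partner centralizes it. -/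
theorem caseB_core [Finite G] (h : Hyp G σ) (hf : Four σ p q r s) {V N L : Subgroup G}
    (hV : Cfsg.IsElementaryAbelian p V) (hV1 : V ≠ ⊥) [hVn : V.Normal] (hN : IsPGroup q N)
    (hNC : N ⊓ centralizer (V : Set G) = ⊥) (hNp : ∃ u v, IsPair q N u v)
    (hexc : q = 2 → IsMulCommutative N) (hLN : L ≤ normalizer (N : Set G)) (t : Two L r s)
    (hexcl : ∀ a ∈ L, ∀ b ∈ L, orderOf a = r → orderOf b = s → Commute a b →
      (a ∈ centralizer (N : Set G) ↔ b ∉ centralizer (N : Set G)))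
    {a b : G} (ha : a ∈ L) (hb : b ∈ L) (hao : orderOf a = r) (hbo : orderOf b = s) (hab : Commute a b)
    (haN : a ∈ centralizer (N : Set G)) : False := by
  haveI := h.solv
  haveI := Fact.mk (h.prime p hf.hp)
  haveI := Fact.mk (h.prime q hf.hq)
  haveI := Fact.mk (h.prime r hf.hr)
  haveI := Fact.mk (h.prime s hf.hs)
  have hVN : ∀ g : G, g ∈ normalizer (V : Set G) := fun g => by rw [normalizer_eq_top]; exact mem_top g
  have hN1 : N ≠ ⊥ := by
    obtain ⟨u, v, hu⟩ := hNp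
    intro e
    have := hu.1
    rw [e, mem_bot] at this
    have h1 := hu.2.2.1
    rw [this, orderOf_one] at h1
    exact (h.prime q hf.hq).ne_one h1.symm
  obtain ⟨n, hn, hn1⟩ := N.bot_or_exists_ne_one.resolve_left hN1
  obtain ⟨lq, kq, hlq, hlqd, hkq⟩ := exists_power_prime_order hn1
  have hlqq : lq = q := by
    obtain ⟨i, hi⟩ := hN.exists_card_eq
    have := hlqd.trans (Subgroup.orderOf_mk n hn ▸ orderOf_dvd_natCard (⟨n, hn⟩ : N))
    rw [hi] at this
    exact (Nat.prime_dvd_prime_iff_eq hlq Fact.out).1 (hlq.dvd_of_dvd_pow this)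
  rw [hlqq] at hkq
  set n₀ := n ^ kq
  have hn₀ : n₀ ∈ N := pow_mem hn _
  set L₀ := L ⊓ centralizer (N : Set G) with hL₀
  -- no element of prime order in `L₀` fixes a point of `V`
  have hfpf : ∀ x ∈ L₀, ∀ l ∈ σ, l ≠ p → l ≠ q → orderOf x = l → ¬ Fix V x := by
    rintro x hx l hl hlp hlq' hxo ⟨w, hw, hw1, hxw⟩
    obtain ⟨u, v, hu⟩ := hNp
    have hcx : ∀ y ∈ N, y ∈ normalizer ((V ⊓ centralizer ({x} : Set G) : Subgroup G) : Set G) := fun y hy =>
      mem_normalizer_inf (hVN y) (mem_normalizer_centralizer (mem_centralizer_iff.1 hx.2 y hy))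
    obtain ⟨f, hf', -, hfo, k, hk, hk1, hfk⟩ := pair_fixed (h.prime q hf.hq) hu (hcx u hu.1) (hcx v hu.2.1)
      (fun hd => not_dvd_card (h.prime q hf.hq) hf.pq.symm (elem_isPGroup hV) (hd.trans (card_dvd_of_le inf_le_left)))
      (fun e => hw1 (mem_bot.1 (e ▸ (⟨hw, mem_centralizer_singleton_iff.2 hxw.symm.eq⟩ :
        w ∈ V ⊓ centralizer ({x} : Set G)))))
    exact h.tri p hf.hp q hf.hq l hl hf.pq hlq'.symm hlp.symm k f x (elem_order hV hk.1 hk1) hfo hxo hfk.symm
      (mem_centralizer_singleton_iff.1 hk.2) (mem_centralizer_iff.1 hx.2 f hf')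
  -- `L₀` is an `r`-group with a unique subgroup of order `r`
  haveI : Nontrivial V := V.nontrivial_iff_ne_bot.2 hV1
  have ha₀ : a ∈ L₀ := ⟨ha, haN⟩
  haveI : Nontrivial L₀ := L₀.nontrivial_iff_ne_bot.2 fun e => by
    rw [e, mem_bot] at ha₀
    rw [ha₀, orderOf_one] at hao
    exact (h.prime r hf.hr).ne_one hao.symm
  have hprimes : ∀ x ∈ L₀, ∀ l : ℕ, l.Prime → l ∣ orderOf x → l = r ∨ l = s := fun x hx l hl hd =>
    t.dvd l hl (hd.trans ((Subgroup.orderOf_mk x hx.1).symm ▸ orderOf_dvd_natCard (⟨x, hx.1⟩ : L)))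
  have hF : Grp.Zas.HasFpf L₀ := by
    refine Grp.Zas.hasFpf_of_fpf_aut
      (V.normalizerMonoidHom.comp (inclusion (fun x _ => hVN x : L₀ ≤ normalizer (V : Set G))))
      (fun x hx w hw => ?_)
    by_contra hw1
    have hxw : (x : G) * w * (x : G)⁻¹ = w := congrArg Subtype.val hw
    have hx' : (x : G) ≠ 1 := by simpa using hx
    obtain ⟨l, k, hl, hld, hk⟩ := exists_power_prime_order hx'
    refine hfpf _ (pow_mem x.2 k) l ?_ ?_ ?_ hk ⟨w, w.2, fun e => hw1 (Subtype.ext e),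
      Commute.pow_left (show Commute (x : G) w from mul_inv_eq_iff_eq_mul.1 hxw) k⟩
    · rcases hprimes x x.2 l hl hld with e | e <;> subst e
      exacts [hf.hr, hf.hs]
    · rcases hprimes x x.2 l hl hld with e | e <;> subst e
      exacts [hf.pr.symm, hf.ps.symm]
    · rcases hprimes x x.2 l hl hld with e | e <;> subst e
      exacts [hf.qr.symm, hf.qs.symm]
  have hnoS : ¬ s ∣ Nat.card L₀ := by
    intro hd
    haveI : Group.IsSolvable L₀ := inferInstance
    have hrd : r ∣ Nat.card L₀ := hao ▸ (Subgroup.orderOf_mk a ha₀ ▸ orderOf_dvd_natCard (⟨a, ha₀⟩ : L₀))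
    obtain ⟨g, hg⟩ := Grp.ThreePrimes.fpf_pair hF (h.prime r hf.hr) (h.prime s hf.hs) hf.rs hrd hd
      (fun l hl hld => t.dvd l hl (hld.trans (card_dvd_of_le inf_le_left)))
    have hg' : orderOf (g : G) = r * s := by rw [Subgroup.orderOf_coe, hg]
    have hgN : Commute (g : G) n₀ := (mem_centralizer_iff.1 g.2.2 n₀ hn₀).symm
    refine h.tri q hf.hq r hf.hr s hf.hs hf.qr hf.rs hf.qs n₀ ((g : G) ^ s) ((g : G) ^ r) hkq ?_ ?_
      (hgN.symm.pow_right _) (hgN.symm.pow_right _) ((Commute.refl _).pow_pow _ _)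
    · rw [orderOf_pow_of_dvd (h.prime s hf.hs).ne_zero (hg' ▸ Dvd.intro_left r rfl), hg',
        Nat.mul_div_cancel _ (h.prime s hf.hs).pos]
    · rw [orderOf_pow_of_dvd (h.prime r hf.hr).ne_zero (hg' ▸ Dvd.intro s rfl), hg',
        Nat.mul_div_cancel_left _ (h.prime r hf.hr).pos]
  have hSout : ∀ x ∈ L, orderOf x = s → x ∉ centralizer (N : Set G) := fun x hx hxo hxN =>
    hnoS (hxo ▸ (Subgroup.orderOf_mk x (show x ∈ L₀ from Subgroup.mem_inf.2 ⟨hx, hxN⟩) ▸
      orderOf_dvd_natCard (⟨x, Subgroup.mem_inf.2 ⟨hx, hxN⟩⟩ : L₀)))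
  have hRpart : ∀ x ∈ L, ∀ y ∈ L, orderOf x = r → orderOf y = s → Commute x y → x ∈ L₀ :=
    fun x hx y hy hxo hyo hc => ⟨hx, (hexcl x hx y hy hxo hyo hc).2 (hSout y hy hyo)⟩
  have hL₀p : IsPGroup r L₀ := by
    refine IsPGroup.of_card (n := (Nat.card L₀).primeFactorsList.length)
      (Nat.eq_prime_pow_of_unique_prime_dvd Nat.card_pos.ne' fun {l} hl hd => ?_)
    rcases t.dvd l hl (hd.trans (card_dvd_of_le inf_le_left)) with e | e
    · exact e
    · exact absurd (e ▸ hd) hnoS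
  have huniq : ∀ x ∈ L₀, orderOf x = r → x ∈ zpowers a := by
    intro x hx hxo
    refine mem_zpowers_of_no_pair hL₀p ?_ ha₀ hx hao hxo
    rintro ⟨u, v, hu⟩
    obtain ⟨f, hf', -, hfo, k, hk, hk1, hfk⟩ := pair_fixed (h.prime r hf.hr) hu (hVN u) (hVN v)
      (not_dvd_card (h.prime r hf.hr) hf.pr.symm (elem_isPGroup hV)) hV1
    exact hfpf f hf' r hf.hr hf.pr.symm hf.qr.symm hfo ⟨k, hk, hk1, hfk⟩
  have hLa : L ≤ normalizer ((zpowers a) : Set G) := by
    intro g hg
    refine mem_normalizer_fintype fun x hx => ?_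
    obtain ⟨i, rfl⟩ := mem_zpowers_iff.1 hx
    rw [← conj_zpow]
    refine zpow_mem (huniq _ (Subgroup.mem_inf.2 ⟨mul_mem (mul_mem hg ha) (inv_mem hg), ?_⟩) ?_) i
    · refine mem_centralizer_iff.2 fun y hy => ?_
      have hy' : g⁻¹ * y * g ∈ N := by simpa using (mem_normalizer_iff.1 (inv_mem (hLN hg)) y).1 hy
      have e := mem_centralizer_iff.1 haN _ hy'
      calc y * (g * a * g⁻¹) = g * (g⁻¹ * y * g * a) * g⁻¹ := by group
        _ = g * (a * (g⁻¹ * y * g)) * g⁻¹ := by rw [e]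
        _ = g * a * g⁻¹ * y := by group
    · rw [show g * a * g⁻¹ = MulAut.conj g a from rfl, MulEquiv.orderOf_eq, hao]
  -- at most one subgroup of order `s` centralizes `a`
  have hnopair : ∀ u v, IsPair s L u v → Commute u a → Commute v a → False := by
    intro u v hu hua hva
    obtain ⟨f, hf', hfcl, hfo, k, hk, hk1, hfk⟩ := pair_fixed (h.prime s hf.hs) hu (hLN hu.1) (hLN hu.2.1)
      (not_dvd_card (h.prime s hf.hs) hf.qs.symm hN) hN1
    obtain ⟨l, m, hl, hld, hm⟩ := exists_power_prime_order hk1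
    have hlq : l = q := by
      obtain ⟨i, hi⟩ := hN.exists_card_eq
      have := hld.trans (Subgroup.orderOf_mk k hk ▸ orderOf_dvd_natCard (⟨k, hk⟩ : N))
      rw [hi] at this
      exact (Nat.prime_dvd_prime_iff_eq hl Fact.out).1 (hl.dvd_of_dvd_pow this)
    have hfa : Commute f a := by
      have : closure ({u, v} : Set G) ≤ centralizer ({a} : Set G) := by
        rw [closure_le]
        rintro y (rfl | rfl) <;> rw [SetLike.mem_coe, mem_centralizer_singleton_iff]
        exacts [hua.eq, hva.eq]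
      exact mem_centralizer_singleton_iff.1 (this hfcl)
    exact h.tri q hf.hq r hf.hr s hf.hs hf.qr hf.rs hf.qs (k ^ m) a f (hlq ▸ hm) hao hfo
      (Commute.pow_left (show Commute k a from mem_centralizer_iff.1 haN k hk) m) (hfk.symm.pow_left m) hfa.symm
  obtain ⟨u, v, hu⟩ := t.pairS
  obtain ⟨f₀, hf₀, hf₀cl, hf₀o, hf₀a⟩ :=
    pair_exists_commute (h.prime s hf.hs) (h.prime r hf.hr) hu hao (hLa hu.1) (hLa hu.2.1)
  -- the `r`-core is centralized by `f₀`
  have hR : ∀ y ∈ Cfsg.pCoreOf r L, Commute f₀ y := by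
    intro y hy
    have hle : Cfsg.pCoreOf r L ≤ centralizer ({f₀} : Set G) := by
      refine pair_le (h.prime s hf.hs) hu (conj_mem_pCoreOf hu.1) (conj_mem_pCoreOf hu.2.1)
        (not_dvd_card (h.prime s hf.hs) hf.rs.symm (lg_isPGroup_pCoreOf L)) fun f hfcl hfo z hz => ?_
      have hfL : f ∈ L := (pair_pow hu f hfcl).2.1
      by_cases hfa : Commute f a
      · by_cases hm : f ∈ zpowers f₀
        · obtain ⟨i, hi⟩ := mem_zpowers_iff.1 hm
          have he := zpowers_eq_of_mem (h.prime s hf.hs) hf₀o hfo hm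
          obtain ⟨j, hj⟩ := mem_zpowers_iff.1 (show f₀ ∈ zpowers f from he ▸ mem_zpowers f₀)
          rw [mem_centralizer_singleton_iff, ← hj]
          exact (Commute.zpow_right (show Commute z f from mem_centralizer_singleton_iff.1 hz.2) j).eq
        · exact (hnopair f₀ f ⟨hf₀, hfL, hf₀o, hfo,
            (((pair_pow hu f₀ hf₀cl).2.2) |> fun ⟨h1, h2⟩ => by
              have : closure ({u, v} : Set G) ≤ centralizer ({f₀} : Set G) := by
                rw [closure_le]
                rintro y (rfl | rfl) <;> rw [SetLike.mem_coe, mem_centralizer_singleton_iff]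
                exacts [h1.symm.eq, h2.symm.eq]
              exact (mem_centralizer_singleton_iff.1 (this hfcl) : Commute f f₀).symm), hm⟩ hf₀a hfa).elim
      · by_cases hz1 : z = 1
        · rw [hz1]; exact one_mem _
        exfalso
        obtain ⟨l, m, hl, hld, hm⟩ := exists_power_prime_order hz1
        have hlr : l = r := by
          obtain ⟨i, hi⟩ := (lg_isPGroup_pCoreOf (p := r) L).exists_card_eq
          have := hld.trans (Subgroup.orderOf_mk z hz.1 ▸ orderOf_dvd_natCard (⟨z, hz.1⟩ : Cfsg.pCoreOf r L))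
          rw [hi] at this
          exact (Nat.prime_dvd_prime_iff_eq hl Fact.out).1 (hl.dvd_of_dvd_pow this)
        subst hlr
        have hzL : z ^ m ∈ L := pow_mem (lg_pCoreOf_le L hz.1) m
        have hzf : Commute (z ^ m) f := Commute.pow_left (show Commute z f from mem_centralizer_singleton_iff.1 hz.2) m
        have hmem := huniq _ (hRpart _ hzL f hfL hm hfo hzf) hm
        obtain ⟨j, hj⟩ := mem_zpowers_iff.1
          (show a ∈ zpowers (z ^ m) from zpowers_eq_of_mem (h.prime l hf.hr) hao hm hmem ▸ mem_zpowers a)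
        exact hfa (hj ▸ (hzf.zpow_left j).symm)
    exact (mem_centralizer_singleton_iff.1 (hle hy)).symm
  -- the `s`-core is trivial
  have hS : Cfsg.pCoreOf s L = ⊥ := by
    by_contra hne
    set S₁ := omegaCenter s (Cfsg.pCoreOf s L) with hS₁
    have hS₁n : L ≤ normalizer (S₁ : Set G) := fun g hg => omegaCenter_normalizer (conj_mem_pCoreOf hg)
    have hS₁L : S₁ ≤ L := omegaCenter_le.trans (lg_pCoreOf_le L)
    have hS₁a : ∀ z ∈ S₁, Commute z a := by
      intro z hz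
      have h1 : z * a * z⁻¹ * a⁻¹ ∈ zpowers a :=
        mul_mem ((mem_normalizer_iff.1 (hLa (hS₁L hz)) a).1 (mem_zpowers a)) (inv_mem (mem_zpowers a))
      have h2 : z * a * z⁻¹ * a⁻¹ ∈ S₁ := by
        rw [mul_assoc, mul_assoc, ← mul_assoc a]
        exact mul_mem hz ((mem_normalizer_iff.1 (hS₁n ha) _).1 (inv_mem hz))
      have h3 : z * a * z⁻¹ * a⁻¹ ∈ zpowers a ⊓ S₁ := ⟨h1, h2⟩
      rw [Grp.inf_eq_bot_of_coprime (by
        rw [Nat.card_zpowers, hao]
        exact (h.prime r hf.hr).coprime_iff_not_dvd.2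
          (not_dvd_card (h.prime r hf.hr) hf.rs (elem_isPGroup omegaCenter_elementary))), mem_bot] at h3
      exact mul_inv_eq_iff_eq_mul.1 (mul_inv_eq_one.1 h3)
    obtain ⟨z, hz, hz1⟩ := S₁.bot_or_exists_ne_one.resolve_left
      (omegaCenter_ne_bot (lg_isPGroup_pCoreOf L) hne)
    have hzo : orderOf z = s := orderOf_eq_prime hz.2.1 hz1
    have hzn : L ≤ normalizer ((zpowers z) : Set G) := by
      intro g hg
      refine mem_normalizer_fintype fun x hx => ?_
      obtain ⟨i, rfl⟩ := mem_zpowers_iff.1 hx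
      rw [← conj_zpow]
      refine zpow_mem ?_ i
      by_contra hn
      have hgz : g * z * g⁻¹ ∈ S₁ := (mem_normalizer_iff.1 (hS₁n hg) z).1 hz
      exact hnopair z (g * z * g⁻¹) ⟨hS₁L hz, hS₁L hgz, hzo,
        by rw [show g * z * g⁻¹ = MulAut.conj g z from rfl, MulEquiv.orderOf_eq, hzo],
        hz.2.2 _ hgz.1, hn⟩ (hS₁a z hz) (hS₁a _ hgz)
    obtain ⟨x₁, x₂, hx⟩ := t.pairR
    obtain ⟨x, hxL, hxo, hxa⟩ : ∃ x ∈ L, orderOf x = r ∧ x ∉ zpowers a := by
      by_cases h1 : x₁ ∈ zpowers a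
      · exact ⟨x₂, hx.2.1, hx.2.2.2.1, fun h2 => hx.2.2.2.2.2
          (zpowers_eq_of_mem (h.prime r hf.hr) hao hx.2.2.1 h1 ▸ h2)⟩
      · exact ⟨x₁, hx.1, hx.2.2.1, h1⟩
    have hrs : r ∣ s - 1 := by
      by_contra hd
      exact hxa (huniq _ (hRpart x hxL z (hS₁L hz) hxo hzo
        (commute_of_not_dvd_sub_one (h.prime r hf.hr) (h.prime s hf.hs) hxo hzo (hzn hxL) hd)) hxo)
    have hsr : s ∣ r - 1 := by
      by_contra hd
      exact hnopair u v hu
        (commute_of_not_dvd_sub_one (h.prime s hf.hs) (h.prime r hf.hr) hu.2.2.1 hao (hLa hu.1) hd)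
        (commute_of_not_dvd_sub_one (h.prime s hf.hs) (h.prime r hf.hr) hu.2.2.2.1 hao (hLa hu.2.1) hd)
    have h1 := Nat.le_of_dvd (by have := (h.prime s hf.hs).two_le; omega) hrs
    have h2 := Nat.le_of_dvd (by have := (h.prime r hf.hr).two_le; omega) hsr
    have := hf.rs
    have := (h.prime r hf.hr).two_le
    have := (h.prime s hf.hs).two_le
    omega
  have hcent := mem_centralizer_cores t hf₀ hR (fun y hy => by
    rw [hS, mem_bot] at hy; rw [hy]; exact Commute.one_right _)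
  have hfit : (⟨f₀, hf₀⟩ : L) ∈ Cfsg.fittingSubgroup L := by
    apply Grp.centralizer_fittingSubgroup_le (G := L)
    have : Cfsg.fittingSubgroup L ≤ centralizer ({⟨f₀, hf₀⟩} : Set L) := by
      rw [Grp.fittingSubgroup_eq_iSup_pCore]
      exact iSup_le fun l y hy => mem_centralizer_singleton_iff.2 (hcent _ l.2 y hy).symm.eq
    exact mem_centralizer_iff.2 fun y hy => mem_centralizer_singleton_iff.1 (this hy)
  have hmem : (⟨f₀, hf₀⟩ : L) ∈ Cfsg.pCore s L := Grp.mem_pCore_of_mem_fitting hfit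
    (IsPGroup.of_card (n := 1) (by rw [Nat.card_zpowers, Subgroup.orderOf_mk, hf₀o, pow_one]))
  have : f₀ ∈ Cfsg.pCoreOf s L := ⟨_, hmem, rfl⟩
  rw [hS, mem_bot] at this
  rw [this, orderOf_one] at hf₀o
  exact (h.prime s hf.hs).ne_one hf₀o.symm

/-- A normal `q`-group with two independent commuting elements of order `q` cannot act faithfully
on `V`. -/
theorem caseB [Finite G] (h : Hyp G σ) (hf : Four σ p q r s) {V N L : Subgroup G}
    (hV : Cfsg.IsElementaryAbelian p V) (hV1 : V ≠ ⊥) [hVn : V.Normal] (hN : IsPGroup q N)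
    (hNC : N ⊓ centralizer (V : Set G) = ⊥) (hNp : ∃ u v, IsPair q N u v)
    (hexc : q = 2 → IsMulCommutative N) (hLN : L ≤ normalizer (N : Set G)) (t : Two L r s) : False := by
  haveI := Fact.mk (h.prime p hf.hp)
  haveI := Fact.mk (h.prime q hf.hq)
  haveI := Fact.mk (h.prime r hf.hr)
  haveI := Fact.mk (h.prime s hf.hs)
  have hVN : ∀ g : G, g ∈ normalizer (V : Set G) := fun g => by rw [normalizer_eq_top]; exact mem_top g
  have hpw : ∀ n ∈ N, n ≠ 1 → ∃ k : ℕ, orderOf (n ^ k) = q := by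
    intro n hn hn1
    obtain ⟨l, k, hl, hld, hk⟩ := exists_power_prime_order hn1
    obtain ⟨i, hi⟩ := hN.exists_card_eq
    have := hld.trans (Subgroup.orderOf_mk n hn ▸ orderOf_dvd_natCard (⟨n, hn⟩ : N))
    rw [hi] at this
    exact ⟨k, (Nat.prime_dvd_prime_iff_eq hl Fact.out).1 (hl.dvd_of_dvd_pow this) ▸ hk⟩
  have hout : ∀ {x : G} {l : ℕ}, [Fact l.Prime] → p ≠ l → q ≠ l → x ∈ L → orderOf x = l →
      x ∉ centralizer (N : Set G) → Fix V x := by
    intro x l _ hpl hql hx hxo hxN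
    by_contra hfix
    exact hxN (mem_centralizer_iff.2 fun y hy => (commute_of_not_fix hf.pq hpl hql hV hN
      (fun g _ => hVN g) hNC hexc hxo (hLN hx) (hVN x) hfix y hy).symm.eq)
  have hjoint : ∀ a b w : G, orderOf a = r → orderOf b = s → Commute a b → w ∈ V → Commute a w →
      Commute b w → w = 1 := by
    intro a b w hao hbo hab hw haw hbw
    by_contra hw1
    exact h.tri p hf.hp r hf.hr s hf.hs hf.pr hf.rs hf.ps w a b (elem_order hV hw hw1) hao hbo haw.symm hbw.symm hab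
  have hjointN : ∀ a b n : G, orderOf a = r → orderOf b = s → Commute a b → n ∈ N → Commute a n →
      Commute b n → n = 1 := by
    intro a b n hao hbo hab hn han hbn
    by_contra hn1
    obtain ⟨k, hk⟩ := hpw n hn hn1
    exact h.tri q hf.hq r hf.hr s hf.hs hf.qr hf.rs hf.qs (n ^ k) a b hk hao hbo
      (han.symm.pow_left k) (hbn.symm.pow_left k) hab
  -- the centralizer in `N` of a partner is trivial
  have hCa : ∀ (l m : ℕ), l ∈ σ → m ∈ σ → l ≠ p → l ≠ q → m ≠ p → m ≠ q → ∀ a b : G, a ∈ L → b ∈ L →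
      orderOf a = l → orderOf b = m → Commute a b → (∀ w ∈ V, Commute a w → Commute b w → w = 1) →
      (∀ n ∈ N, Commute a n → Commute b n → n = 1) → Fix V a → ∀ n ∈ N, Commute a n → n = 1 := by
    intro l m hl hm hlp hlq hmp hmq a b haL hbL hao hbo hab hj hjn hfa n hn han
    by_contra hn1
    obtain ⟨k, hk⟩ := hpw n hn hn1
    obtain ⟨w, hw, hw1, haw⟩ := hfa
    set W := V ⊓ centralizer ({a} : Set G) with hW
    set K := N ⊓ centralizer ({a} : Set G) with hK
    haveI : IsMulCommutative W := ⟨⟨fun x y => by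
      have e := congrArg Subtype.val (hV.1.is_comm.comm (⟨(x : G), x.2.1⟩ : V) ⟨(y : G), y.2.1⟩)
      exact Subtype.ext e⟩⟩
    have hcent := frobenius_centralizes (h.prime p hf.hp) (W := W) (K := K) (y := b)
      (fun x hx => hV.2 x hx.1)
      (fun x hx => mem_normalizer_inf (hVN x) (le_normalizer hx.2))
      (mem_normalizer_inf (hVN b) (mem_normalizer_centralizer hab.symm))
      (mem_normalizer_inf (hLN hbL) (mem_normalizer_centralizer hab.symm))
      (fun hd => not_dvd_card (h.prime p hf.hp) hf.pq hN (hd.trans (card_dvd_of_le inf_le_left)))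
      (fun i hi hi' y hy hc => by
        have hcop : i.Coprime (orderOf b) := by
          rw [hbo]; rw [hbo] at hi'
          exact (Nat.coprime_of_lt_prime hi.ne' hi' (h.prime m hm)).symm
        obtain ⟨j, hj'⟩ := exists_pow_eq_self_of_coprime hcop
        exact hjn y hy.1 (mem_centralizer_singleton_iff.1 hy.2 : Commute y a).symm
          (hj' ▸ hc.pow_left j))
      (fun x hx hc => hj x hx.1 (mem_centralizer_singleton_iff.1 hx.2 : Commute x a).symm hc)
    exact h.tri p hf.hp q hf.hq l hl hf.pq hlq.symm hlp.symm w (n ^ k) a (elem_order hV hw hw1) hk hao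
      ((mem_centralizer_iff.1 (hcent (pow_mem (show n ∈ K from ⟨hn, mem_centralizer_singleton_iff.2 han.symm.eq⟩) k))
        w ⟨hw, mem_centralizer_singleton_iff.2 haw.symm.eq⟩ : Commute w (n ^ k)))
      haw.symm (han.symm.pow_left k)
  have hexcl : ∀ a ∈ L, ∀ b ∈ L, orderOf a = r → orderOf b = s → Commute a b →
      (a ∈ centralizer (N : Set G) ↔ b ∉ centralizer (N : Set G)) := by
    intro a ha b hb hao hbo hab
    constructor
    · intro haN hbN
      obtain ⟨u, v, hu⟩ := hNp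
      have h1 := hjointN a b u hao hbo hab hu.1 (mem_centralizer_iff.1 haN u hu.1).symm
        (mem_centralizer_iff.1 hbN u hu.1).symm
      have h2 := hu.2.2.1
      rw [h1, orderOf_one] at h2
      exact (h.prime q hf.hq).ne_one h2.symm
    · intro hbN
      by_contra haN
      have hfa := hout hf.pr hf.qr ha hao haN
      have hfb := hout hf.ps hf.qs hb hbo hbN
      have hCNa := hCa r s hf.hr hf.hs hf.pr.symm hf.qr.symm hf.ps.symm hf.qs.symm a b ha hb hao hbo hab
        (fun w hw h1 h2 => hjoint a b w hao hbo hab hw h1 h2)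
        (fun n hn h1 h2 => hjointN a b n hao hbo hab hn h1 h2) hfa
      have hCNb := hCa s r hf.hs hf.hr hf.ps.symm hf.qs.symm hf.pr.symm hf.qr.symm b a hb ha hbo hao hab.symm
        (fun w hw h1 h2 => hjoint a b w hao hbo hab hw h2 h1)
        (fun n hn h1 h2 => hjointN a b n hao hbo hab hn h2 h1) hfb
      set y := a * b with hy
      have hyo : orderOf y = r * s := by
        rw [hy, hab.orderOf_mul_eq_mul_orderOf_of_coprime, hao, hbo]
        rw [hao, hbo]; exact (Nat.coprime_primes (h.prime r hf.hr) (h.prime s hf.hs)).2 hf.rs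
      haveI := hV.1
      have hya : ∀ i : ℕ, (y ^ i) ^ s = a ^ (i * s) := by
        intro i
        rw [← pow_mul, hy, hab.mul_pow, show b ^ (i * s) = 1 by
          rw [mul_comm, pow_mul, ← hbo, pow_orderOf_eq_one, one_pow], mul_one]
      have hyb : ∀ i : ℕ, (y ^ i) ^ r = b ^ (i * r) := by
        intro i
        rw [← pow_mul, hy, hab.mul_pow, show a ^ (i * r) = 1 by
          rw [mul_comm, pow_mul, ← hao, pow_orderOf_eq_one, one_pow], one_mul]
      have hcent := frobenius_centralizes (h.prime p hf.hp) (W := V) (K := N) (y := y) hV.2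
        (fun g _ => hVN g) (hVN y) (mul_mem (hLN ha) (hLN hb)) (not_dvd_card (h.prime p hf.hp) hf.pq hN)
        (fun i hi hi' n hn hc => by
          rw [hyo] at hi'
          by_cases hri : r ∣ i
          · have hsi : ¬ s ∣ i := fun hd => absurd (Nat.le_of_dvd hi
              (((Nat.coprime_primes (h.prime r hf.hr) (h.prime s hf.hs)).2 hf.rs).mul_dvd_of_dvd_of_dvd hri hd)) (not_le.2 hi')
            have hcop : (i * r).Coprime (orderOf b) := by
              rw [hbo]
              exact Nat.Coprime.mul_left ((h.prime s hf.hs).coprime_iff_not_dvd.2 hsi).symm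
                ((Nat.coprime_primes (h.prime r hf.hr) (h.prime s hf.hs)).2 hf.rs)
            obtain ⟨j, hj⟩ := exists_pow_eq_self_of_coprime hcop
            exact hCNb n hn (hj ▸ ((hyb i ▸ hc.pow_left r).pow_left j))
          · have hcop : (i * s).Coprime (orderOf a) := by
              rw [hao]
              exact Nat.Coprime.mul_left ((h.prime r hf.hr).coprime_iff_not_dvd.2 hri).symm
                ((Nat.coprime_primes (h.prime s hf.hs) (h.prime r hf.hr)).2 hf.rs.symm)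
            obtain ⟨j, hj⟩ := exists_pow_eq_self_of_coprime hcop
            exact hCNa n hn (hj ▸ ((hya i ▸ hc.pow_left s).pow_left j)))
        (fun w hw hc => by
          have hcop : (1 * s).Coprime (orderOf a) := by
            rw [hao, one_mul]; exact (Nat.coprime_primes (h.prime s hf.hs) (h.prime r hf.hr)).2 hf.rs.symm
          have hcop' : (1 * r).Coprime (orderOf b) := by
            rw [hbo, one_mul]; exact (Nat.coprime_primes (h.prime r hf.hr) (h.prime s hf.hs)).2 hf.rs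
          obtain ⟨j, hj⟩ := exists_pow_eq_self_of_coprime hcop
          obtain ⟨j', hj'⟩ := exists_pow_eq_self_of_coprime hcop'
          exact hjoint a b w hao hbo hab hw (hj ▸ ((hya 1 ▸ (pow_one y ▸ hc).pow_left s).pow_left j))
            (hj' ▸ ((hyb 1 ▸ (pow_one y ▸ hc).pow_left r).pow_left j')))
      obtain ⟨u, v, hu⟩ := hNp
      have : u ∈ N ⊓ centralizer (V : Set G) := ⟨hu.1, hcent hu.1⟩
      rw [hNC, mem_bot] at this
      have h2 := hu.2.2.1
      rw [this, orderOf_one] at h2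
      exact (h.prime q hf.hq).ne_one h2.symm
  obtain ⟨a, ha, b, hb, hao, hbo, hab⟩ := t.edge
  by_cases haN : a ∈ centralizer (N : Set G)
  · exact caseB_core h hf hV hV1 hN hNC hNp hexc hLN t hexcl ha hb hao hbo hab haN
  · have hbN : b ∈ centralizer (N : Set G) := by
      by_contra hb'
      exact haN ((hexcl a ha b hb hao hbo hab).2 hb')
    exact caseB_core h hf.swapRS hV hV1 hN hNC hNp hexc hLN t.symm
      (fun x hx y hy hxo hyo hc => by
        have := hexcl y hy x hx hyo hxo hc.symm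
        tauto) hb ha hbo hao hab.symm hbN

/-- A nontrivial core of `L` cannot centralize one of the two modules. -/
theorem caseA_faithful [Finite G] (h : Hyp G σ) (hf : Four σ p q r s) {V W L : Subgroup G}
    (hV : Cfsg.IsElementaryAbelian p V) (hW : Cfsg.IsElementaryAbelian q W) (hV1 : V ≠ ⊥) (hW1 : W ≠ ⊥)
    (hVW : ∀ v ∈ V, ∀ w ∈ W, Commute v w) (hLV : L ≤ normalizer (V : Set G)) (hLW : L ≤ normalizer (W : Set G))
    (t : Two L r s) : Cfsg.pCoreOf r L ⊓ centralizer (V : Set G) = ⊥ := by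
  haveI := Fact.mk (h.prime p hf.hp)
  haveI := Fact.mk (h.prime q hf.hq)
  haveI := Fact.mk (h.prime r hf.hr)
  haveI := Fact.mk (h.prime s hf.hs)
  by_contra hne
  set D := Cfsg.pCoreOf r L ⊓ centralizer (V : Set G) with hD
  have hDp : IsPGroup r D := (lg_isPGroup_pCoreOf L).to_le inf_le_left
  have hDn : ∀ g ∈ L, g ∈ normalizer (D : Set G) := fun g hg => mem_normalizer_inf (conj_mem_pCoreOf hg)
    (mem_normalizer_fintype fun z hz => mem_centralizer_iff.2 fun v hv => by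
      have hv' : g⁻¹ * v * g ∈ V := by simpa using (mem_normalizer_iff.1 (inv_mem (hLV hg)) v).1 hv
      have e := mem_centralizer_iff.1 hz _ hv'
      calc v * (g * z * g⁻¹) = g * (g⁻¹ * v * g * z) * g⁻¹ := by group
        _ = g * (z * (g⁻¹ * v * g)) * g⁻¹ := by rw [e]
        _ = g * z * g⁻¹ * v := by group)
  set M := omegaCenter r D with hM
  have hML : M ≤ L := omegaCenter_le.trans (inf_le_left.trans (lg_pCoreOf_le L))
  have hMn : ∀ g ∈ L, g ∈ normalizer (M : Set G) := fun g hg => omegaCenter_normalizer (hDn g hg)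
  obtain ⟨v₀, hv₀, hv₀1⟩ := V.bot_or_exists_ne_one.resolve_left hV1
  have hfpW : ∀ m ∈ M, m ≠ 1 → ¬ Fix W m := by
    rintro m hm hm1 ⟨w, hw, hw1, hmw⟩
    exact h.tri p hf.hp q hf.hq r hf.hr hf.pq hf.qr hf.pr v₀ w m (elem_order hV hv₀ hv₀1) (elem_order hW hw hw1)
      (orderOf_eq_prime hm.2.1 hm1) (hVW _ hv₀ _ hw) (mem_centralizer_iff.1 hm.1.2 v₀ hv₀) hmw.symm
  obtain ⟨m, hm, hm1⟩ := M.bot_or_exists_ne_one.resolve_left (omegaCenter_ne_bot hDp hne)
  have hmo : orderOf m = r := orderOf_eq_prime hm.2.1 hm1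
  have hmn : L ≤ normalizer ((zpowers m) : Set G) := by
    intro g hg
    refine mem_normalizer_fintype fun x hx => ?_
    obtain ⟨i, rfl⟩ := mem_zpowers_iff.1 hx
    rw [← conj_zpow]
    refine zpow_mem ?_ i
    by_contra hn
    have hgm : g * m * g⁻¹ ∈ M := (mem_normalizer_iff.1 (hMn g hg) m).1 hm
    have hpair : IsPair r M m (g * m * g⁻¹) := ⟨hm, hgm, hmo,
      by rw [show g * m * g⁻¹ = MulAut.conj g m from rfl, MulEquiv.orderOf_eq, hmo], hm.2.2 _ hgm.1, hn⟩
    obtain ⟨f, hf', -, hfo, k, hk, hk1, hfk⟩ := pair_fixed (h.prime r hf.hr) hpair (hLW (hML hm)) (hLW (hML hgm))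
      (not_dvd_card (h.prime r hf.hr) hf.qr.symm (elem_isPGroup hW)) hW1
    exact hfpW f hf' (fun e => by rw [e, orderOf_one] at hfo; exact (h.prime r hf.hr).ne_one hfo.symm)
      ⟨k, hk, hk1, hfk⟩
  obtain ⟨u, v, hu⟩ := t.pairS
  obtain ⟨f, hfL, -, hfo, k, hk, hk1, hfk⟩ := pair_fixed (h.prime s hf.hs) hu (hLV hu.1) (hLV hu.2.1)
    (not_dvd_card (h.prime s hf.hs) hf.ps.symm (elem_isPGroup hV)) hV1
  have hfm : ¬ Commute f m := fun hc => h.tri p hf.hp r hf.hr s hf.hs hf.pr hf.rs hf.ps k m f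
    (elem_order hV hk hk1) hmo hfo (mem_centralizer_iff.1 hm.1.2 k hk) hfk.symm hc.symm
  haveI := hW.1
  have hcent := frobenius_centralizes (h.prime q hf.hq) (W := W) (K := zpowers m) (y := f) hW.2
    (zpowers_le.2 (hLW (hML hm))) (hLW hfL) (hmn hfL)
    (by rw [Nat.card_zpowers, hmo]; exact fun hd => hf.qr ((Nat.prime_dvd_prime_iff_eq Fact.out Fact.out).1 hd))
    (fun i hi hi' y hy hc => by
      by_contra hy1
      have hcop : i.Coprime (orderOf f) := by
        rw [hfo]; rw [hfo] at hi'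
        exact (Nat.coprime_of_lt_prime hi.ne' hi' (h.prime s hf.hs)).symm
      obtain ⟨j, hj⟩ := exists_pow_eq_self_of_coprime hcop
      have hyo : orderOf y = r := by
        obtain ⟨i', rfl⟩ := mem_zpowers_iff.1 hy
        refine orderOf_eq_prime ?_ hy1
        rw [← zpow_natCast, ← zpow_mul, mul_comm, zpow_mul, zpow_natCast, ← hmo, pow_orderOf_eq_one, one_zpow]
      obtain ⟨j', hj'⟩ := mem_zpowers_iff.1
        (show m ∈ zpowers y from zpowers_eq_of_mem (h.prime r hf.hr) hmo hyo hy ▸ mem_zpowers m)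
      exact hfm (hj' ▸ (hj ▸ hc.pow_left j).zpow_right j'))
    (fun w hw hc => by
      by_contra hw1
      exact h.tri p hf.hp q hf.hq s hf.hs hf.pq hf.qs hf.ps k w f (elem_order hV hk hk1) (elem_order hW hw hw1)
        hfo (hVW k hk w hw) hfk.symm hc.symm)
  obtain ⟨w, hw, hw1⟩ := W.bot_or_exists_ne_one.resolve_left hW1
  exact hfpW m hm hm1 ⟨w, hw, hw1, (mem_centralizer_iff.1 (hcent (mem_zpowers m)) w hw).symm⟩

/-- The odd core of `L` is cyclic and centralized by the elements of the other prime order. -/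
theorem caseA_odd [Finite G] (h : Hyp G σ) (hf : Four σ p q r s) {V W L : Subgroup G}
    (hV : Cfsg.IsElementaryAbelian p V) (hW : Cfsg.IsElementaryAbelian q W) (hV1 : V ≠ ⊥) (hW1 : W ≠ ⊥)
    (hVW : ∀ v ∈ V, ∀ w ∈ W, Commute v w) (hLV : L ≤ normalizer (V : Set G)) (hLW : L ≤ normalizer (W : Set G))
    (t : Two L r s) (hr2 : r ≠ 2) :
    IsCyclic (Cfsg.pCoreOf r L) ∧ ∀ f ∈ L, orderOf f = s → ∀ y ∈ Cfsg.pCoreOf r L, Commute f y := by
  haveI := Fact.mk (h.prime p hf.hp)
  haveI := Fact.mk (h.prime q hf.hq)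
  haveI := Fact.mk (h.prime r hf.hr)
  haveI := Fact.mk (h.prime s hf.hs)
  have hcV := caseA_faithful h hf hV hW hV1 hW1 hVW hLV hLW t
  have hcW := caseA_faithful h hf.swapPQ hW hV hW1 hV1 (fun w hw v hv => (hVW v hv w hw).symm) hLW hLV t
  have hRL : Cfsg.pCoreOf r L ≤ L := lg_pCoreOf_le L
  have hall : ∀ f ∈ L, orderOf f = s → ∀ y ∈ Cfsg.pCoreOf r L, Commute f y := by
    intro f hfL hfo
    by_cases hfV : Fix V f
    · refine commute_of_not_fix hf.qr hf.qs hf.rs hW (lg_isPGroup_pCoreOf L) (hRL.trans hLW) hcW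
        (fun e => absurd e hr2) hfo (conj_mem_pCoreOf hfL) (hLW hfL) ?_
      rintro ⟨w, hw, hw1, hfw⟩
      obtain ⟨v, hv, hv1, hfv⟩ := hfV
      exact h.tri p hf.hp q hf.hq s hf.hs hf.pq hf.qs hf.ps v w f (elem_order hV hv hv1) (elem_order hW hw hw1)
        hfo (hVW v hv w hw) hfv.symm hfw.symm
    · exact commute_of_not_fix hf.pr hf.ps hf.rs hV (lg_isPGroup_pCoreOf L) (hRL.trans hLV) hcV
        (fun e => absurd e hr2) hfo (conj_mem_pCoreOf hfL) (hLV hfL) hfV
  refine ⟨isCyclic_of_no_pair (lg_isPGroup_pCoreOf L) hr2 ?_, hall⟩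
  rintro ⟨x₁, x₂, hx⟩
  obtain ⟨u, v, hu⟩ := t.pairS
  obtain ⟨f, hfL, -, hfo, k, hk, hk1, hfk⟩ := pair_fixed (h.prime s hf.hs) hu (hLV hu.1) (hLV hu.2.1)
    (not_dvd_card (h.prime s hf.hs) hf.ps.symm (elem_isPGroup hV)) hV1
  have hn : ∀ y ∈ Cfsg.pCoreOf r L, y ∈ normalizer ((V ⊓ centralizer ({f} : Set G) : Subgroup G) : Set G) :=
    fun y hy => mem_normalizer_inf (hLV (hRL hy)) (mem_normalizer_centralizer (hall f hfL hfo y hy).symm)
  obtain ⟨e, he, -, heo, w, hw, hw1, hew⟩ := pair_fixed (h.prime r hf.hr) hx (hn x₁ hx.1) (hn x₂ hx.2.1)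
    (fun hd => not_dvd_card (h.prime r hf.hr) hf.pr.symm (elem_isPGroup hV) (hd.trans (card_dvd_of_le inf_le_left)))
    (fun e => hk1 (mem_bot.1 (e ▸ (⟨hk, mem_centralizer_singleton_iff.2 hfk.symm.eq⟩ :
      k ∈ V ⊓ centralizer ({f} : Set G)))))
  exact h.tri p hf.hp r hf.hr s hf.hs hf.pr hf.rs hf.ps w e f (elem_order hV hw.1 hw1) heo hfo hew.symm
    (mem_centralizer_singleton_iff.1 hw.2) (hall f hfL hfo e he).symm

/-- The core at the prime two of `L` is trivial. -/
theorem caseA_two [Finite G] (h : Hyp G σ) (hf : Four σ p q r s) {V W L : Subgroup G}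
    (hV : Cfsg.IsElementaryAbelian p V) (hW : Cfsg.IsElementaryAbelian q W) (hV1 : V ≠ ⊥) (hW1 : W ≠ ⊥)
    (hVW : ∀ v ∈ V, ∀ w ∈ W, Commute v w) (hLV : L ≤ normalizer (V : Set G)) (hLW : L ≤ normalizer (W : Set G))
    (t : Two L r s) (hr2 : r = 2) : Cfsg.pCoreOf r L = ⊥ := by
  haveI := h.solv
  haveI := Fact.mk (h.prime p hf.hp)
  haveI := Fact.mk (h.prime q hf.hq)
  haveI := Fact.mk (h.prime r hf.hr)
  haveI := Fact.mk (h.prime s hf.hs)
  by_contra hne
  have hcV := caseA_faithful h hf hV hW hV1 hW1 hVW hLV hLW t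
  have hcV' := caseA_faithful h hf.swapRS hV hW hV1 hW1 hVW hLV hLW t.symm
  have hcW := caseA_faithful h hf.swapPQ hW hV hW1 hV1 (fun w hw v hv => (hVW v hv w hw).symm) hLW hLV t
  set M := omegaCenter r (Cfsg.pCoreOf r L) with hM
  have hML : M ≤ L := omegaCenter_le.trans (lg_pCoreOf_le L)
  have hMn : ∀ g ∈ L, g ∈ normalizer (M : Set G) := fun g hg => omegaCenter_normalizer (conj_mem_pCoreOf hg)
  have hMp : IsPGroup r M := elem_isPGroup omegaCenter_elementary
  have hMab : r = 2 → IsMulCommutative M := fun _ => omegaCenter_elementary.1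
  obtain ⟨u, v, hu⟩ := t.pairS
  have hMc : ∀ f ∈ L, orderOf f = s → ∀ y ∈ M, Commute f y := by
    intro f hfL hfo
    by_cases hfV : Fix V f
    · refine commute_of_not_fix hf.qr hf.qs hf.rs hW hMp (hML.trans hLW)
        (le_bot_iff.1 (hcW ▸ inf_le_inf omegaCenter_le le_rfl)) hMab hfo (hMn f hfL) (hLW hfL) ?_
      rintro ⟨w, hw, hw1, hfw⟩
      obtain ⟨v, hv, hv1, hfv⟩ := hfV
      exact h.tri p hf.hp q hf.hq s hf.hs hf.pq hf.qs hf.ps v w f (elem_order hV hv hv1) (elem_order hW hw hw1)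
        hfo (hVW v hv w hw) hfv.symm hfw.symm
    · exact commute_of_not_fix hf.pr hf.ps hf.rs hV hMp (hML.trans hLV)
        (le_bot_iff.1 (hcV ▸ inf_le_inf omegaCenter_le le_rfl)) hMab hfo (hMn f hfL) (hLV hfL) hfV
  -- `M` has order two and acts as the inversion on both modules
  obtain ⟨z, hz, hz1⟩ := M.bot_or_exists_ne_one.resolve_left (omegaCenter_ne_bot (lg_isPGroup_pCoreOf L) hne)
  have hzo : orderOf z = r := orderOf_eq_prime hz.2.1 hz1
  have huniq : ∀ y ∈ M, y ∈ zpowers z := by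
    intro y hy
    by_contra hn
    have hyo : orderOf y = r := orderOf_eq_prime hy.2.1 fun e => hn (e ▸ one_mem _)
    obtain ⟨f, hfL, -, hfo, k, hk, hk1, hfk⟩ := pair_fixed (h.prime s hf.hs) hu (hLV hu.1) (hLV hu.2.1)
      (not_dvd_card (h.prime s hf.hs) hf.ps.symm (elem_isPGroup hV)) hV1
    have hn' : ∀ y ∈ M, y ∈ normalizer ((V ⊓ centralizer ({f} : Set G) : Subgroup G) : Set G) :=
      fun y hy => mem_normalizer_inf (hLV (hML hy)) (mem_normalizer_centralizer (hMc f hfL hfo y hy).symm)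
    obtain ⟨e, he, -, heo, w, hw, hw1, hew⟩ := pair_fixed (h.prime r hf.hr)
      (⟨hz, hy, hzo, hyo, hz.2.2 y hy.1, hn⟩ : IsPair r M z y) (hn' z hz) (hn' y hy)
      (fun hd => not_dvd_card (h.prime r hf.hr) hf.pr.symm (elem_isPGroup hV) (hd.trans (card_dvd_of_le inf_le_left)))
      (fun e => hk1 (mem_bot.1 (e ▸ (⟨hk, mem_centralizer_singleton_iff.2 hfk.symm.eq⟩ :
        k ∈ V ⊓ centralizer ({f} : Set G)))))
    exact h.tri p hf.hp r hf.hr s hf.hs hf.pr hf.rs hf.ps w e f (elem_order hV hw.1 hw1) heo hfo hew.symm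
      (mem_centralizer_singleton_iff.1 hw.2) (hMc f hfL hfo e he).symm
  have hzc : ∀ g ∈ L, Commute g z := by
    intro g hg
    obtain ⟨i, hi⟩ := mem_zpowers_iff.1 (huniq _ ((mem_normalizer_iff.1 (hMn g hg) z).1 hz))
    have hne1 : g * z * g⁻¹ ≠ 1 := fun e => hz1 (conj_eq_one_iff.1 e)
    have hz2 : z ^ (2 : ℤ) = 1 := by
      rw [show (2 : ℤ) = ((2 : ℕ) : ℤ) from rfl, zpow_natCast, ← hr2, ← hzo, pow_orderOf_eq_one]
    rw [← Int.emod_add_mul_ediv i 2, zpow_add, zpow_mul, hz2, one_zpow, mul_one] at hi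
    rcases Int.emod_two_eq_zero_or_one i with e | e <;> rw [e] at hi
    · exact absurd hi.symm (by simpa using hne1)
    · exact mul_inv_eq_iff_eq_mul.1 (by simpa using hi.symm)
  have hznot : ∀ (l : ℕ) (X : Subgroup G), l ∈ σ → l ≠ r → l ≠ s → Cfsg.IsElementaryAbelian l X →
      L ≤ normalizer (X : Set G) → ¬ Fix X z := by
    rintro l X hl hlr hls hX hLX ⟨w, hw, hw1, hzw⟩
    haveI := Fact.mk (h.prime l hl)
    have hn : ∀ y ∈ L, y ∈ normalizer ((X ⊓ centralizer ({z} : Set G) : Subgroup G) : Set G) :=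
      fun y hy => mem_normalizer_inf (hLX hy) (mem_normalizer_centralizer (hzc y hy))
    obtain ⟨f, hfL, -, hfo, k, hk, hk1, hfk⟩ := pair_fixed (h.prime s hf.hs) hu (hn u hu.1) (hn v hu.2.1)
      (fun hd => not_dvd_card (h.prime s hf.hs) hls.symm (elem_isPGroup hX) (hd.trans (card_dvd_of_le inf_le_left)))
      (fun e => hw1 (mem_bot.1 (e ▸ (⟨hw, mem_centralizer_singleton_iff.2 hzw.symm.eq⟩ :
        w ∈ X ⊓ centralizer ({z} : Set G)))))
    exact h.tri l hl r hf.hr s hf.hs hlr hf.rs hls k z f (elem_order hX hk.1 hk1) hzo hfo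
      (mem_centralizer_singleton_iff.1 hk.2) hfk.symm (hzc f hfL).symm
  -- `L` is faithful on `V`
  have hLfaith : ∀ y ∈ L, y ∈ centralizer (V : Set G) → y = 1 := by
    intro y hy hyV
    by_contra hy1
    let D : Subgroup L := (centralizer (V : Set G)).subgroupOf L
    haveI hDn : D.Normal := ⟨fun d hd g => by
      rw [mem_subgroupOf] at hd ⊢
      refine mem_centralizer_iff.2 fun w hw => ?_
      have hw' : (g : G)⁻¹ * w * g ∈ V := by simpa using (mem_normalizer_iff.1 (inv_mem (hLV g.2)) w).1 hw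
      have e := mem_centralizer_iff.1 hd _ hw'
      simp only [Subgroup.coe_mul, Subgroup.coe_inv]
      calc w * ((g : G) * d * (g : G)⁻¹) = g * ((g : G)⁻¹ * w * g * d) * (g : G)⁻¹ := by group
        _ = g * ((d : G) * ((g : G)⁻¹ * w * g)) * (g : G)⁻¹ := by rw [e]
        _ = g * d * (g : G)⁻¹ * w := by group⟩
    have hD1 : D ≠ ⊥ := fun e => hy1 (by
      have : (⟨y, hy⟩ : L) ∈ D := hyV
      rw [e, mem_bot] at this
      exact congrArg Subtype.val this)
    obtain ⟨N, hNn, hN1, hND, hNmin⟩ := Grp.exists_minimal_normal_le (N := D) hD1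
    obtain ⟨l, hl, hNl⟩ := Grp.minimal_normal_solvable_isPGroup inferInstance hN1 hNmin
    haveI := Fact.mk hl
    have hle := Grp.le_pCore hNn hNl
    obtain ⟨n, hn, hn1⟩ := N.bot_or_exists_ne_one.resolve_left hN1
    have hnc : (n : G) ∈ Cfsg.pCoreOf l L ⊓ centralizer (V : Set G) := ⟨⟨n, hle hn, rfl⟩, hND hn⟩
    by_cases h1 : l = r
    · subst h1
      rw [hcV, mem_bot] at hnc
      exact hn1 (Subtype.ext hnc)
    by_cases h2 : l = s
    · subst h2
      rw [hcV', mem_bot] at hnc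
      exact hn1 (Subtype.ext hnc)
    have := hle hn
    rw [pCore_sub_bot t hl h1 h2, mem_bot] at this
    exact hn1 this
  -- a second involution fixes points on both modules
  obtain ⟨x₁, x₂, hx⟩ := t.pairR
  obtain ⟨x, hxL, hxo, hxz⟩ : ∃ x ∈ L, orderOf x = r ∧ x ≠ z := by
    by_cases h1 : x₁ = z
    · exact ⟨x₂, hx.2.1, hx.2.2.2.1, fun h2 => hx.2.2.2.2.2 (by rw [h2, h1]; exact mem_zpowers z)⟩
    · exact ⟨x₁, hx.1, hx.2.2.1, h1⟩
  have hzsq : z ^ 2 = 1 := by rw [← hr2, ← hzo, pow_orderOf_eq_one]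
  have hxsq : x ^ 2 = 1 := by rw [← hr2, ← hxo, pow_orderOf_eq_one]
  haveI := hV.1
  haveI := hW.1
  have hfixV : Fix V x := by
    by_contra hno
    have hiz := invert_of_not_fix hzsq (hLV (hML hz)) (hznot p V hf.hp hf.pr hf.ps hV hLV)
    have hix := invert_of_not_fix hxsq (hLV hxL) hno
    exact hxz (inv_mul_eq_one.1 (hLfaith _ (mul_mem (inv_mem hxL) (hML hz))
      (centralizes_of_same fun w hw => by rw [hix w hw, hiz w hw])))
  have hfixW : Fix W x := by
    by_contra hno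
    have hiz := invert_of_not_fix hzsq (hLW (hML hz)) (hznot q W hf.hq hf.qr hf.qs hW hLW)
    have hix := invert_of_not_fix hxsq (hLW hxL) hno
    have hcent : x⁻¹ * z ∈ centralizer (W : Set G) := centralizes_of_same fun w hw => by rw [hix w hw, hiz w hw]
    obtain ⟨w, hw, hw1⟩ := W.bot_or_exists_ne_one.resolve_left hW1
    have hc : Commute x z := hzc x hxL
    have hyo : orderOf (x⁻¹ * z) = r := by
      refine orderOf_eq_prime ?_ fun e => hxz (inv_mul_eq_one.1 e)
      rw [hr2, hc.inv_left.mul_pow, inv_pow, hxsq, hzsq, inv_one, one_mul]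
    have hyL : x⁻¹ * z ∈ L := mul_mem (inv_mem hxL) (hML hz)
    by_cases hfy : Fix V (x⁻¹ * z)
    · obtain ⟨w', hw', hw'1, hyw'⟩ := hfy
      exact h.tri p hf.hp q hf.hq r hf.hr hf.pq hf.qr hf.pr w' w (x⁻¹ * z) (elem_order hV hw' hw'1)
        (elem_order hW hw hw1) hyo (hVW w' hw' w hw) hyw'.symm (mem_centralizer_iff.1 hcent w hw)
    · have hizV := invert_of_not_fix hzsq (hLV (hML hz)) (hznot p V hf.hp hf.pr hf.ps hV hLV)
      have hiyV := invert_of_not_fix (by rw [← hr2, ← hyo, pow_orderOf_eq_one]) (hLV hyL) hfy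
      have hyz := inv_mul_eq_one.1 (hLfaith _ (mul_mem (inv_mem hyL) (hML hz))
        (centralizes_of_same fun v hv => by rw [hiyV v hv, hizV v hv]))
      have hx1 : x = 1 := inv_eq_one.1 (mul_eq_right.1 hyz)
      rw [hx1, orderOf_one] at hxo
      exact (h.prime r hf.hr).ne_one hxo.symm
  obtain ⟨v', hv', hv'1, hxv⟩ := hfixV
  obtain ⟨w, hw, hw1, hxw⟩ := hfixW
  exact h.tri p hf.hp q hf.hq r hf.hr hf.pq hf.qr hf.pr v' w x (elem_order hV hv' hv'1) (elem_order hW hw hw1)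
    hxo (hVW v' hv' w hw) hxv.symm hxw.symm

end

end Cfsg.Agent.Invol.FourPrime
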