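import Mathlib
import Cfsg.Prelude
import Cfsg.Agent.Lib.Invol.FourPrime.Cases
import Cfsg.Agent.Lib.Grp.CoprimeHall

/-!
# Four primes pairwise adjacent without triangles force non-solvability
-/

set_option autoImplicit false

namespace Cfsg.Agent.Invol.FourPrime

open Subgroup
open scoped Pointwise

variable {G : Type*} [Group G] {σ : Finset ℕ} {p q r s : ℕ}

theorem core_equiv_cyclic {L : Subgroup G} {l : ℕ} (h : IsCyclic (Cfsg.pCoreOf l L)) : IsCyclic (Cfsg.pCore l L) :=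
  ((Cfsg.pCore l L).equivMapOfInjective L.subtype L.subtype_injective).symm.isCyclic.1 h

theorem core_eq_bot_iff {L : Subgroup G} {l : ℕ} : Cfsg.pCoreOf l L = ⊥ ↔ Cfsg.pCore l L = ⊥ :=
  map_eq_bot_iff_of_injective _ L.subtype_injective

/-- Two commuting elementary modules normalized by a `{r, s}`-group are impossible. -/
theorem caseA [Finite G] (h : Hyp G σ) (hf : Four σ p q r s) {V W L : Subgroup G}
    (hV : Cfsg.IsElementaryAbelian p V) (hW : Cfsg.IsElementaryAbelian q W) (hV1 : V ≠ ⊥) (hW1 : W ≠ ⊥)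
    (hVW : ∀ v ∈ V, ∀ w ∈ W, Commute v w) (hLV : L ≤ normalizer (V : Set G)) (hLW : L ≤ normalizer (W : Set G))
    (t : Two L r s) : False := by
  haveI := h.solv
  haveI := Fact.mk (h.prime r hf.hr)
  haveI := Fact.mk (h.prime s hf.hs)
  obtain ⟨u, v, hu⟩ := t.pairR
  have hc : IsCyclic (Cfsg.pCore r L) := by
    by_cases hr2 : r = 2
    · rw [core_eq_bot_iff.1 (caseA_two h hf hV hW hV1 hW1 hVW hLV hLW t hr2)]; infer_instance
    · exact core_equiv_cyclic (caseA_odd h hf hV hW hV1 hW1 hVW hLV hLW t hr2).1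
  have hcomm : ∀ x ∈ L, orderOf x = r → ∀ l : ℕ, l.Prime → l ≠ r → ∀ y ∈ Cfsg.pCore l L, Commute x (y : G) := by
    intro x hx hxo l hl hlr y hy
    by_cases hls : l = s
    · subst hls
      by_cases hs2 : l = 2
      · rw [core_eq_bot_iff.1 (caseA_two h hf.swapRS hV hW hV1 hW1 hVW hLV hLW t.symm hs2), mem_bot] at hy
        simp [hy]
      · exact (caseA_odd h hf.swapRS hV hW hV1 hW1 hVW hLV hLW t.symm hs2).2 x hx hxo y ⟨y, hy, rfl⟩
    · rw [pCore_sub_bot t hl hlr hls, mem_bot] at hy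
      simp [hy]
  have hpair : IsPair r (⊤ : Subgroup L) ⟨u, hu.1⟩ ⟨v, hu.2.1⟩ := by
    refine ⟨mem_top _, mem_top _, by rw [Subgroup.orderOf_mk]; exact hu.2.2.1,
      by rw [Subgroup.orderOf_mk]; exact hu.2.2.2.1, Subtype.ext hu.2.2.2.2.1.eq, fun hm => hu.2.2.2.2.2 ?_⟩
    obtain ⟨i, hi⟩ := mem_zpowers_iff.1 hm
    exact mem_zpowers_iff.2 ⟨i, by simpa using congrArg Subtype.val hi⟩
  exact cyclic_core_false hc hpair
    (fun l hl hlr y hy => Subtype.ext (hcomm u hu.1 hu.2.2.1 l hl hlr y hy).eq)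
    (fun l hl hlr y hy => Subtype.ext (hcomm v hu.2.1 hu.2.2.2.1 l hl hlr y hy).eq)

/-- A subgroup carrying the configuration on the primes other than `p`. -/
structure Three (σ : Finset ℕ) (p : ℕ) (K : Subgroup G) : Prop where
  dvd : ∀ l : ℕ, l.Prime → l ∣ Nat.card K → l ∈ σ ∧ l ≠ p
  pair : ∀ l ∈ σ, l ≠ p → ∃ u v, IsPair l K u v
  edge : ∀ a ∈ σ, ∀ b ∈ σ, a ≠ p → b ≠ p → a ≠ b → ∃ x ∈ K, ∃ y ∈ K, orderOf x = a ∧ orderOf y = b ∧ Commute x y

theorem mem_smul_iff {g x : G} {H : Subgroup G} : x ∈ MulAut.conj g • H ↔ g⁻¹ * x * g ∈ H := by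
  rw [Subgroup.mem_pointwise_smul_iff_inv_smul_mem]
  simp [MulAut.smul_def]

theorem pair_into [Finite G] {π : Set ℕ} {K H : Subgroup G} [Group.IsSolvable K] (hH : Cfsg.IsPiHallOf π H K) {l : ℕ}
    (hl : l.Prime) (hlπ : l ∈ π) (h : ∃ u v, IsPair l K u v) : ∃ u v, IsPair l H u v := by
  obtain ⟨u, v, hu⟩ := h
  haveI := Fact.mk hl
  have hP : IsPGroup l (closure ({u, v} : Set G)) := fun a =>
    ⟨1, Subtype.ext (by rw [pow_one]; exact (pair_pow hu a a.2).1)⟩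
  obtain ⟨n, hn⟩ := hP.exists_card_eq
  obtain ⟨g, hg, hle⟩ := Grp.PiHall.dominate hH (U := closure ({u, v} : Set G)) (fun x hx => (pair_pow hu x hx).2.1)
    (fun t ht htd => by
      rw [hn] at htd
      exact (Nat.prime_dvd_prime_iff_eq ht hl).1 (ht.dvd_of_dvd_pow htd) ▸ hlπ)
  refine ⟨g⁻¹ * u * g, g⁻¹ * v * g, mem_smul_iff.1 (hle (subset_closure (by simp))),
    mem_smul_iff.1 (hle (subset_closure (by simp))), ?_, ?_, ?_, ?_⟩
  · rw [show g⁻¹ * u * g = MulAut.conj g⁻¹ u by simp, MulEquiv.orderOf_eq, hu.2.2.1]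
  · rw [show g⁻¹ * v * g = MulAut.conj g⁻¹ v by simp, MulEquiv.orderOf_eq, hu.2.2.2.1]
  · simpa using hu.2.2.2.2.1.map (MulAut.conj g⁻¹).toMonoidHom
  · intro hm
    obtain ⟨i, hi⟩ := mem_zpowers_iff.1 hm
    refine hu.2.2.2.2.2 (mem_zpowers_iff.2 ⟨i, ?_⟩)
    have h2 := congrArg (MulAut.conj g) hi
    rw [map_zpow] at h2
    simpa [mul_assoc] using h2

theorem edge_into [Finite G] {π : Set ℕ} {K H : Subgroup G} [Group.IsSolvable K] (hH : Cfsg.IsPiHallOf π H K) {a b : ℕ}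
    (ha : a.Prime) (hb : b.Prime) (hab : a ≠ b) (haπ : a ∈ π) (hbπ : b ∈ π)
    (h : ∃ x ∈ K, ∃ y ∈ K, orderOf x = a ∧ orderOf y = b ∧ Commute x y) :
    ∃ x ∈ H, ∃ y ∈ H, orderOf x = a ∧ orderOf y = b ∧ Commute x y := by
  obtain ⟨x, hx, y, hy, hxo, hyo, hc⟩ := h
  have ho : orderOf (x * y) = a * b := by
    rw [hc.orderOf_mul_eq_mul_orderOf_of_coprime, hxo, hyo]
    rw [hxo, hyo]; exact (Nat.coprime_primes ha hb).2 hab
  obtain ⟨g, hg, hle⟩ := Grp.PiHall.dominate hH (U := zpowers (x * y)) (zpowers_le.2 (mul_mem hx hy))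
    (fun t ht htd => by
      rw [Nat.card_zpowers, ho] at htd
      rcases (ht.dvd_mul).1 htd with e | e
      · exact (Nat.prime_dvd_prime_iff_eq ht ha).1 e ▸ haπ
      · exact (Nat.prime_dvd_prime_iff_eq ht hb).1 e ▸ hbπ)
  have hm : g⁻¹ * (x * y) * g ∈ H := mem_smul_iff.1 (hle (mem_zpowers _))
  set z := g⁻¹ * (x * y) * g with hz
  have hzo : orderOf z = a * b := by
    rw [hz, show g⁻¹ * (x * y) * g = MulAut.conj g⁻¹ (x * y) by simp, MulEquiv.orderOf_eq, ho]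
  refine ⟨z ^ b, pow_mem hm _, z ^ a, pow_mem hm _, ?_, ?_, (Commute.refl z).pow_pow _ _⟩
  · rw [orderOf_pow_of_dvd hb.ne_zero (hzo ▸ Dvd.intro_left a rfl), hzo, Nat.mul_div_cancel _ hb.pos]
  · rw [orderOf_pow_of_dvd ha.ne_zero (hzo ▸ Dvd.intro b rfl), hzo, Nat.mul_div_cancel_left _ ha.pos]

theorem exists_two [Finite G] (h : Hyp G σ) (hf : Four σ p q r s) {K : Subgroup G} (t : Three σ p K) :
    ∃ L : Subgroup G, L ≤ K ∧ Two L r s := by
  haveI := h.solv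
  obtain ⟨L, hL⟩ := Grp.PiHall.exists_piHall ({r, s} : Set ℕ) K
  refine ⟨L, hL.1, fun l hl hd => by simpa using hL.2.1 l hl hd,
    pair_into hL (h.prime r hf.hr) (by simp) (t.pair r hf.hr hf.pr.symm),
    pair_into hL (h.prime s hf.hs) (by simp) (t.pair s hf.hs hf.ps.symm),
    edge_into hL (h.prime r hf.hr) (h.prime s hf.hs) hf.rs (by simp) (by simp)
      (t.edge r hf.hr s hf.hs hf.pr.symm hf.ps.symm hf.rs)⟩

theorem core_case [Finite G] (h : Hyp G σ) (hf : Four σ p q r s) {V K : Subgroup G}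
    (hV : Cfsg.IsElementaryAbelian p V) (hV1 : V ≠ ⊥) [hVn : V.Normal] (t : Three σ p K) :
    IsCyclic (Cfsg.pCoreOf q K) ∧ (q = 2 → Cfsg.pCoreOf q K = ⊥) := by
  haveI := Fact.mk (h.prime q hf.hq)
  have hVN : ∀ g : G, g ∈ normalizer (V : Set G) := fun g => by rw [normalizer_eq_top]; exact mem_top g
  obtain ⟨L, hLK, t2⟩ := exists_two h hf t
  have hcV : Cfsg.pCoreOf q K ⊓ centralizer (V : Set G) = ⊥ := by
    by_contra hne
    set D := Cfsg.pCoreOf q K ⊓ centralizer (V : Set G) with hD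
    have hLD : L ≤ normalizer (omegaCenter q D : Set G) := fun g hg => omegaCenter_normalizer
      (mem_normalizer_inf (conj_mem_pCoreOf (hLK hg)) (by rw [normalizer_eq_top]; exact mem_top g))
    refine caseA h hf hV (omegaCenter_elementary (Q := D)) hV1
      (omegaCenter_ne_bot ((lg_isPGroup_pCoreOf K).to_le inf_le_left) hne)
      (fun v hv w hw => mem_centralizer_iff.1 hw.1.2 v hv) (fun g _ => hVN g) hLD t2
  by_cases hq2 : q = 2
  · suffices e : Cfsg.pCoreOf q K = ⊥ by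
      refine ⟨?_, fun _ => e⟩
      rw [e]; infer_instance
    by_contra hne
    set M := omegaCenter q (Cfsg.pCoreOf q K) with hM
    have hMn : ∀ g ∈ K, g ∈ normalizer (M : Set G) := fun g hg => omegaCenter_normalizer (conj_mem_pCoreOf hg)
    have hno : ¬ ∃ u v, IsPair q M u v := fun hp => caseB h hf hV hV1 (elem_isPGroup omegaCenter_elementary)
      (le_bot_iff.1 (hcV ▸ inf_le_inf omegaCenter_le le_rfl)) hp (fun _ => omegaCenter_elementary.1)
      (fun g hg => hMn g (hLK hg)) t2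
    obtain ⟨z, hz, hz1⟩ := M.bot_or_exists_ne_one.resolve_left (omegaCenter_ne_bot (lg_isPGroup_pCoreOf K) hne)
    have hzo : orderOf z = q := orderOf_eq_prime hz.2.1 hz1
    have hzc : ∀ g ∈ K, Commute g z := by
      intro g hg
      have hgo : orderOf (g * z * g⁻¹) = q := by
        rw [show g * z * g⁻¹ = MulAut.conj g z from rfl, MulEquiv.orderOf_eq, hzo]
      obtain ⟨i, hi⟩ := mem_zpowers_iff.1 (mem_zpowers_of_no_pair (elem_isPGroup omegaCenter_elementary) hno hz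
        ((mem_normalizer_iff.1 (hMn g hg) z).1 hz) hzo hgo)
      have hz2 : z ^ (2 : ℤ) = 1 := by
        rw [show (2 : ℤ) = ((2 : ℕ) : ℤ) from rfl, zpow_natCast, ← hq2, ← hzo, pow_orderOf_eq_one]
      rw [← Int.emod_add_mul_ediv i 2, zpow_add, zpow_mul, hz2, one_zpow, mul_one] at hi
      rcases Int.emod_two_eq_zero_or_one i with e | e <;> rw [e] at hi
      · exact absurd (conj_eq_one_iff.1 (by simpa using hi.symm : g * z * g⁻¹ = 1)) hz1
      · exact mul_inv_eq_iff_eq_mul.1 (by simpa using hi.symm)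
    obtain ⟨a, ha, b, hb, hao, hbo, hab⟩ := t2.edge
    exact h.tri q hf.hq r hf.hr s hf.hs hf.qr hf.rs hf.qs z a b hzo hao hbo (hzc a (hLK ha)).symm
      (hzc b (hLK hb)).symm hab
  · exact ⟨isCyclic_of_no_pair (lg_isPGroup_pCoreOf K) hq2 fun hp =>
      caseB h hf hV hV1 (lg_isPGroup_pCoreOf K) hcV hp (fun e => absurd e hq2)
        (fun g hg => conj_mem_pCoreOf (hLK hg)) t2, fun e => absurd e hq2⟩

theorem four_false [Finite G] (h : Hyp G σ) : False := by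
  classical
  haveI := h.solv
  obtain ⟨p₀, hp₀⟩ := Finset.card_pos.1 (show 0 < σ.card by rw [h.card]; norm_num)
  obtain ⟨u₀, _, hu₀⟩ := exists_pair h hp₀
  have htop : (⊤ : Subgroup G) ≠ ⊥ := fun e => by
    have hm : u₀ ∈ (⊥ : Subgroup G) := e ▸ mem_top u₀
    have h1 := hu₀.2.2.1
    rw [mem_bot.1 hm, orderOf_one] at h1
    exact (h.prime p₀ hp₀).ne_one h1.symm
  obtain ⟨V, hVn, hV1, -, hVmin⟩ := Grp.exists_minimal_normal_le (N := (⊤ : Subgroup G)) htop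
  haveI := hVn
  obtain ⟨hVc, p, hp, hVe⟩ := Grp.minimal_normal_solvable (N := V) inferInstance hV1 hVmin
  haveI := Fact.mk hp
  have hV : Cfsg.IsElementaryAbelian p V := ⟨hVc, hVe⟩
  have hpσ : p ∈ σ := by
    obtain ⟨w, hw, hw1⟩ := V.bot_or_exists_ne_one.resolve_left hV1
    exact h.dvd p hp (orderOf_eq_prime (hVe w hw) hw1 ▸ orderOf_dvd_natCard w)
  obtain ⟨K, hK⟩ := Grp.PiHall.exists_piHall ({l | l ∈ σ ∧ l ≠ p} : Set ℕ) (⊤ : Subgroup G)
  have t : Three σ p K := ⟨fun l hl hd => hK.2.1 l hl hd,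
    fun l hl hlp => pair_into hK (h.prime l hl) ⟨hl, hlp⟩ (exists_pair h hl),
    fun a ha b hb hap hbp hab => edge_into hK (h.prime a ha) (h.prime b hb) hab ⟨ha, hap⟩ ⟨hb, hbp⟩ (by
      obtain ⟨x, y, hx, hy, hc⟩ := h.edge a ha b hb hab
      exact ⟨x, mem_top _, y, mem_top _, hx, hy, hc⟩)⟩
  have hcore : ∀ l ∈ σ, l ≠ p → IsCyclic (Cfsg.pCoreOf l K) ∧ (l = 2 → Cfsg.pCoreOf l K = ⊥) := by
    intro l hl hlp
    obtain ⟨q, r, s, hf⟩ := exists_four h.card hpσ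
    rcases hf.cover l hl with e | e | e | e
    · exact absurd e hlp
    · subst e; exact core_case h hf hV hV1 t
    · subst e; exact core_case h hf.swapQR hV hV1 t
    · subst e; exact core_case h hf.swapRS.swapQR hV hV1 t
  -- some core of `K` is nontrivial
  obtain ⟨r₀, hr₀, hr₀p⟩ : ∃ r₀ ∈ σ, r₀ ≠ p := by
    obtain ⟨q, r, s, hf⟩ := exists_four h.card hpσ
    exact ⟨q, hf.hq, hf.pq.symm⟩
  obtain ⟨a, _, ha⟩ := t.pair r₀ hr₀ hr₀p
  have hK1 : (⊤ : Subgroup K) ≠ ⊥ := fun e => by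
    have hm : (⟨a, ha.1⟩ : K) ∈ (⊥ : Subgroup K) := e ▸ mem_top _
    have h1 := ha.2.2.1
    rw [show a = 1 from congrArg Subtype.val (mem_bot.1 hm), orderOf_one] at h1
    exact (h.prime r₀ hr₀).ne_one h1.symm
  obtain ⟨N, hNn, hN1, -, hNmin⟩ := Grp.exists_minimal_normal_le (N := (⊤ : Subgroup K)) hK1
  obtain ⟨l₀, hl₀, hNl⟩ := Grp.minimal_normal_solvable_isPGroup inferInstance hN1 hNmin
  have hmemσ : ∀ l : ℕ, l.Prime → Cfsg.pCore l K ≠ ⊥ → l ∈ σ ∧ l ≠ p := by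
    intro l hl hne
    haveI := Fact.mk hl
    obtain ⟨k, hk⟩ := (Grp.pCore_isPGroup (p := l) (G := K)).exists_card_eq
    have hk0 : k ≠ 0 := fun e => hne (card_eq_one.1 (by rw [hk, e, pow_zero]))
    exact t.dvd l hl ((dvd_pow_self l hk0).trans (hk ▸ card_subgroup_dvd_card _))
  set S := σ.filter fun l => Cfsg.pCore l K ≠ ⊥ with hS
  have hne : Cfsg.pCore l₀ K ≠ ⊥ := fun e => hN1 (le_bot_iff.1 ((Grp.le_pCore hNn hNl).trans e.le))
  have hS1 : S.Nonempty := ⟨l₀, Finset.mem_filter.2 ⟨(hmemσ l₀ hl₀ hne).1, hne⟩⟩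
  obtain ⟨hrσ, hrne⟩ := Finset.mem_filter.1 (S.max'_mem hS1)
  set r := S.max' hS1 with hr
  have hrP := h.prime r hrσ
  haveI := Fact.mk hrP
  have hrp := (hmemσ r hrP hrne).2
  obtain ⟨u, v, hu⟩ := t.pair r hrσ hrp
  have hcomm : ∀ x ∈ K, orderOf x = r → ∀ l : ℕ, l.Prime → l ≠ r → ∀ y ∈ Cfsg.pCore l K, Commute x (y : G) := by
    intro x hx hxo l hl hlr y hy
    by_cases hy1 : Cfsg.pCore l K = ⊥
    · rw [hy1, mem_bot] at hy; simp [hy]
    haveI := Fact.mk hl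
    obtain ⟨hlσ, hlp⟩ := hmemσ l hl hy1
    have hlt : l < r := lt_of_le_of_ne (Finset.le_max' S l (Finset.mem_filter.2 ⟨hlσ, hy1⟩)) hlr
    haveI := (hcore l hlσ hlp).1
    refine commute_of_totient hrP hxo (conj_mem_pCoreOf hx) ?_ y ⟨y, hy, rfl⟩
    obtain ⟨k, hk⟩ := (lg_isPGroup_pCoreOf (p := l) K).exists_card_eq
    rw [hk]
    rcases Nat.eq_zero_or_pos k with e | e
    · subst e; simp [hrP.ne_one]
    rw [Nat.totient_prime_pow hl e, hrP.dvd_mul, not_or]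
    refine ⟨fun hd => hlr.symm ((Nat.prime_dvd_prime_iff_eq hrP hl).1 (hrP.dvd_of_dvd_pow hd)), fun hd => ?_⟩
    have := Nat.le_of_dvd (by have := hl.two_le; omega) hd
    omega
  have hpair : IsPair r (⊤ : Subgroup K) ⟨u, hu.1⟩ ⟨v, hu.2.1⟩ := by
    refine ⟨mem_top _, mem_top _, by rw [Subgroup.orderOf_mk]; exact hu.2.2.1,
      by rw [Subgroup.orderOf_mk]; exact hu.2.2.2.1, Subtype.ext hu.2.2.2.2.1.eq, fun hm => hu.2.2.2.2.2 ?_⟩
    obtain ⟨i, hi⟩ := mem_zpowers_iff.1 hm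
    exact mem_zpowers_iff.2 ⟨i, by simpa using congrArg Subtype.val hi⟩
  exact cyclic_core_false (core_equiv_cyclic (hcore r hrσ hrp).1) hpair
    (fun l hl hlr y hy => Subtype.ext (hcomm u hu.1 hu.2.2.1 l hl hlr y hy).eq)
    (fun l hl hlr y hy => Subtype.ext (hcomm v hu.2.1 hu.2.2.2.1 l hl hlr y hy).eq)

/-- Four primes, any two dividing an element order and no three, exclude solvability. -/
theorem not_solvable [Finite G] (σ : Finset ℕ) (hσ : 4 ≤ σ.card) (hprime : ∀ p ∈ σ, p.Prime)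
    (h2 : ∀ p ∈ σ, ∀ q ∈ σ, p ≠ q → ∃ g : G, orderOf g = p * q)
    (h3 : ∀ p ∈ σ, ∀ q ∈ σ, ∀ r ∈ σ, p ≠ q → q ≠ r → p ≠ r → ∀ g : G, orderOf g ≠ p * q * r) :
    ¬ Group.IsSolvable G := by
  intro hs
  haveI := hs
  obtain ⟨τ, hτσ, hτ⟩ := Finset.exists_subset_card_eq hσ
  obtain ⟨H, hH⟩ := Grp.PiHall.exists_piHall ({l | l ∈ τ} : Set ℕ) (⊤ : Subgroup G)
  refine four_false (G := H) (σ := τ) ⟨inferInstance, fun p hp => hprime p (hτσ hp), hτ,
    fun l hl hd => hH.2.1 l hl hd, fun p hp q hq hpq => ?_, fun p hp q hq r hr hpq hqr hpr x y z hx hy hz hxy hxz hyz => ?_⟩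
  · have hp' := hprime p (hτσ hp)
    have hq' := hprime q (hτσ hq)
    obtain ⟨g, hg⟩ := h2 p (hτσ hp) q (hτσ hq) hpq
    obtain ⟨x, hx, y, hy, hxo, hyo, hc⟩ := edge_into hH hp' hq' hpq hp hq
      ⟨g ^ q, mem_top _, g ^ p, mem_top _,
        by rw [orderOf_pow_of_dvd hq'.ne_zero (hg ▸ Dvd.intro_left p rfl), hg, Nat.mul_div_cancel _ hq'.pos],
        by rw [orderOf_pow_of_dvd hp'.ne_zero (hg ▸ Dvd.intro q rfl), hg, Nat.mul_div_cancel_left _ hp'.pos],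
        (Commute.refl g).pow_pow _ _⟩
    exact ⟨⟨x, hx⟩, ⟨y, hy⟩, by rw [Subgroup.orderOf_mk, hxo], by rw [Subgroup.orderOf_mk, hyo], Subtype.ext hc.eq⟩
  · have hp' := hprime p (hτσ hp)
    have hq' := hprime q (hτσ hq)
    have hr' := hprime r (hτσ hr)
    refine h3 p (hτσ hp) q (hτσ hq) r (hτσ hr) hpq hqr hpr ((x * y * z : H) : G) ?_
    have hxyo : orderOf (x * y) = p * q := by
      rw [hxy.orderOf_mul_eq_mul_orderOf_of_coprime, hx, hy]
      rw [hx, hy]; exact (Nat.coprime_primes hp' hq').2 hpq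
    rw [Subgroup.orderOf_coe, (hxz.mul_left hyz).orderOf_mul_eq_mul_orderOf_of_coprime, hxyo, hz]
    rw [hxyo, hz]
    exact Nat.Coprime.mul_left ((Nat.coprime_primes hp' hr').2 hpr) ((Nat.coprime_primes hq' hr').2 hqr)

end Cfsg.Agent.Invol.FourPrime
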